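/-
Elementary abelian 2-groups of automorphisms of `Sz(q)` and `PSL₂(3^odd)`.

Main results (namespace `Cfsg.Agent.SThreeFree`):
* `sz_inner`           : they consist of inner automorphisms and have order at most `q`
* `psl_exists_inverted` : without `S₃` inside `Inn · ⟨α⟩` some odd element is fixed or inverted by all
-/
import Cfsg.Agent.Lib.Suzuki.Aut
import Cfsg.Agent.Lib.NatSL2.Section
import Cfsg.Agent.EqLemmas
import Cfsg.Agent.Lib.Suzuki.Solubilizer
import Cfsg.Agent.Lib.AutPSL.Count
import Cfsg.Agent.Lib.PSL2.Centralizers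
import Cfsg.Agent.Lib.PSL2.Conjugacy
import Cfsg.Agent.Lib.PSL2.Soluble
import Cfsg.Agent.Lib.CharApp.Burnside
import Cfsg.Agent.Lib.Involution.BaerSuzuki
import Cfsg.Agent.Lib.PGV.Two

set_option autoImplicit false

namespace Cfsg.Agent.SThreeFree

open scoped Pointwise

open Matrix

/-- Exponent two gives a 2-group. -/
theorem isPGroup_two {G : Type*} [Group G] {H : Subgroup G} (h : ∀ x ∈ H, x ^ 2 = 1) : IsPGroup 2 H :=
  fun x => ⟨1, Subtype.ext (by simpa using h x x.2)⟩

/-- The elements of a four-group. -/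
theorem klein_mem {L : Type*} [Group L] {K : Subgroup L} (hK2 : ∀ x ∈ K, x ^ 2 = 1)
    (hK : Nat.card K = 4) {s t : L} (hs : s ∈ K) (hs1 : s ≠ 1) (ht : t ∈ K) (ht1 : t ≠ 1) (hts : t ≠ s)
    {x : L} (hx : x ∈ K) : x = 1 ∨ x = s ∨ x = t ∨ x = s * t := by
  classical
  by_contra hcon
  push Not at hcon
  obtain ⟨h1, h2, h3, h4⟩ := hcon
  haveI : Finite K := Nat.finite_of_card_ne_zero (by omega)
  letI := Fintype.ofFinite K
  have hsinv : s⁻¹ = s := inv_eq_of_mul_eq_one_right (by rw [← pow_two]; exact hK2 s hs)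
  have hst1 : s * t ≠ 1 := fun h => hts (by rw [← hsinv, inv_eq_of_mul_eq_one_right h])
  have hsts : s * t ≠ s := fun h => ht1 (mul_eq_left.mp h)
  have hstt : s * t ≠ t := fun h => hs1 (mul_eq_right.mp h)
  let f : Fin 5 → K := ![1, ⟨s, hs⟩, ⟨t, ht⟩, ⟨s * t, mul_mem hs ht⟩, ⟨x, hx⟩]
  have hf : Function.Injective f := by
    intro i j hij
    have hij' := congrArg Subtype.val hij
    fin_cases i <;> fin_cases j <;> simp [f] at hij' <;>
      first
      | rfl
      | exact absurd hij' hs1
      | exact absurd hij'.symm hs1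
      | exact absurd hij' ht1
      | exact absurd hij'.symm ht1
      | exact absurd hij' hst1
      | exact absurd hij'.symm hst1
      | exact absurd hij' h1
      | exact absurd hij'.symm h1
      | exact absurd hij' hts
      | exact absurd hij'.symm hts
      | exact absurd hij' hsts
      | exact absurd hij'.symm hsts
      | exact absurd hij' hstt
      | exact absurd hij'.symm hstt
      | exact absurd hij' h2
      | exact absurd hij'.symm h2
      | exact absurd hij' h3
      | exact absurd hij'.symm h3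
      | exact absurd hij' h4
      | exact absurd hij'.symm h4
  have := Nat.card_le_card_of_injective f hf
  rw [Nat.card_fin, hK] at this
  omega

/-- An involutory automorphism of `Sz(q)` is inner, and so commuting families have order at most `q`. -/
theorem sz_inner {L : Type*} [Group L] [Finite L] {F : Type} [Field F] [Fintype F] {m : ℕ} (hm : 1 ≤ m)
    (hF : Fintype.card F = 2 ^ (2 * m + 1)) (e : L ≃* Cfsg.Sz F m) (hZ : Subgroup.center L = ⊥)
    (E : Subgroup (MulAut L)) (hE : Cfsg.IsElementaryAbelian 2 E) :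
    Nat.card E ≤ 2 ^ (2 * m + 1) ∧ ∀ α ∈ E, α ≠ 1 → ∃ s : L, orderOf s = 2 ∧ α = MulAut.conj s := by
  classical
  haveI : Fact (Nat.Prime 2) := ⟨Nat.prime_two⟩
  have hinj : Function.Injective (MulAut.conj : L →* MulAut L) := by
    rw [injective_iff_map_eq_one]
    intro z hz
    rw [← Subgroup.mem_bot, ← hZ, Subgroup.mem_center_iff]
    intro g
    have := congrArg (fun f : MulAut L => f g) hz
    simp only [MulAut.conj_apply, MulAut.one_apply] at this
    exact (mul_inv_eq_iff_eq_mul.mp this).symm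
  have hin : ∀ α ∈ E, ∃ s : L, s * s = 1 ∧ α = MulAut.conj s := by
    intro α hα
    have hout : (QuotientGroup.mk α : Cfsg.Out L) = 1 := by
      refine orderOf_eq_one_iff.mp ?_
      have h1 : orderOf (QuotientGroup.mk α : Cfsg.Out L) ∣ 2 := orderOf_dvd_of_pow_eq_one (by
        rw [← QuotientGroup.mk_pow, hE.2 α hα]; rfl)
      have h2 : orderOf (QuotientGroup.mk α : Cfsg.Out L) ∣ 2 * m + 1 := by
        rw [← Suzuki.card_out hm hF e]
        exact orderOf_dvd_natCard _
      exact Nat.eq_one_of_dvd_coprimes (Nat.coprime_two_left.mpr ⟨m, rfl⟩) h1 h2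
    obtain ⟨s, hs⟩ := (QuotientGroup.eq_one_iff α).mp hout
    refine ⟨s, hinj ?_, hs.symm⟩
    rw [map_mul, map_one, hs, ← pow_two]
    exact hE.2 α hα
  refine ⟨?_, fun α hα h1 => ?_⟩
  · set K := E.comap (MulAut.conj : L →* MulAut L) with hK
    have hmap : K.map (MulAut.conj : L →* MulAut L) = E := by
      refine Subgroup.map_comap_eq_self fun α hα => ?_
      obtain ⟨s, -, rfl⟩ := hin α hα
      exact ⟨s, rfl⟩
    have hcard : Nat.card E = Nat.card ↥(K.map e.toMonoidHom) := by
      rw [← Nat.card_congr (K.equivMapOfInjective _ e.injective).toEquiv, ← hmap]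
      exact (Nat.card_congr (K.equivMapOfInjective _ hinj).toEquiv).symm
    rw [hcard]
    have hexp : ∀ x ∈ K.map e.toMonoidHom, x ^ 2 = 1 := by
      rintro _ ⟨s, hs, rfl⟩
      rw [← map_pow, show s ^ 2 = 1 from hinj (by rw [map_pow, map_one]; exact hE.2 _ hs), map_one]
    obtain ⟨P, hP⟩ := (isPGroup_two hexp).exists_le_sylow
    obtain ⟨g, hg⟩ := MulAction.exists_smul_eq (Cfsg.Sz F m) P (Suzuki.uSylow hm hF)
    have hle : ∀ x ∈ K.map e.toMonoidHom, g * x * g⁻¹ ∈ Suzuki.uSub hF := fun x hx => by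
      have h2 : MulAut.conj g • x ∈ MulAut.conj g • (P : Subgroup (Cfsg.Sz F m)) :=
        Subgroup.smul_mem_pointwise_smul _ _ _ (hP hx)
      have h3 : ((g • P : Sylow 2 (Cfsg.Sz F m)) : Subgroup (Cfsg.Sz F m)) = Suzuki.uSub hF := by
        rw [hg]; rfl
      rw [← h3, Sylow.coe_subgroup_smul]
      exact h2
    have hzero : ∀ x : ↥(K.map e.toMonoidHom), ∃ b : F, g * (x : Cfsg.Sz F m) * g⁻¹ = Suzuki.tSz hF 0 b := by
      intro x
      obtain ⟨a, b, hab⟩ := (Suzuki.mem_uSub hF).mp (hle x x.2)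
      by_cases ha : a = 0
      · exact ⟨b, by rw [hab, ha]⟩
      exfalso
      have h2 : (g * (x : Cfsg.Sz F m) * g⁻¹) ^ 2 = 1 := by
        rw [conj_pow, hexp _ x.2, mul_one, mul_inv_cancel]
      rw [hab] at h2
      by_cases h1 : Suzuki.tSz hF a b = 1
      · exact ha ((Suzuki.tSz_eq_one_iff hF).mp h1).1
      · exact ha (Suzuki.orderOf_tSz_two hm hF (orderOf_eq_prime h2 h1)).1
    choose f hf using hzero
    rw [← hF, ← Nat.card_eq_fintype_card (α := F)]
    refine Nat.card_le_card_of_injective f fun x y hxy => Subtype.ext ?_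
    have := hf x
    rw [hxy, ← hf y] at this
    exact mul_left_cancel (mul_right_cancel this)
  · obtain ⟨s, hs, rfl⟩ := hin α hα
    exact ⟨s, orderOf_eq_prime (by rw [pow_two, hs]) fun h => h1 (by rw [h, map_one]), rfl⟩

/-- Two distinct commuting involutions have no common odd centralising element in `PSL₂(3^odd)`. -/
theorem psl_no_fixed {L : Type*} [Group L] [Finite L] {F : Type} [Field F] [Fintype F]
    {n : ℕ} (hF : Fintype.card F = 3 ^ (2 * n + 1))
    (e : L ≃* ProjectiveSpecialLinearGroup (Fin 2) F) {s t x : L} (hs : s ^ 2 = 1) (hs1 : s ≠ 1)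
    (ht : t ^ 2 = 1) (ht1 : t ≠ 1) (hts : t ≠ s) (hx1 : x ≠ 1) (hx : Odd (orderOf x))
    (hsx : Commute s x) (htx : Commute t x) : False := by
  classical
  haveI : Fact (Nat.Prime 2) := ⟨Nat.prime_two⟩
  haveI : Fact (Nat.Prime 3) := ⟨by norm_num⟩
  haveI : CharP F 3 := NatSL2.charP_of_card hF
  have hodd : Odd (Nat.card F) := by
    rw [Nat.card_eq_fintype_card, hF]; exact Odd.pow (by decide)
  have hxo : orderOf (e x) = orderOf x := MulEquiv.orderOf_eq e x
  have hmem : ∀ {a : L}, Commute a x → e a ∈ Subgroup.centralizer ({e x} : Set (ProjectiveSpecialLinearGroup (Fin 2) F)) :=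
    fun {a} ha => Subgroup.mem_centralizer_singleton_iff.mpr (by rw [← map_mul, ← map_mul, ha.eq])
  by_cases h3 : orderOf x = 3
  · have h9 : Nat.card ↥(Subgroup.centralizer ({e x} : Set (ProjectiveSpecialLinearGroup (Fin 2) F))) =
        Nat.card F := PSL2.card_centralizer_char 3 (by rw [hxo, h3])
    have h10 : orderOf (e s) ∣ Nat.card F := h9 ▸ Subgroup.orderOf_dvd_natCard _ (hmem hsx)
    rw [MulEquiv.orderOf_eq, orderOf_eq_prime hs hs1] at h10
    exact (Nat.not_even_iff_odd.mpr hodd) (even_iff_two_dvd.mpr h10)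
  · have hne : orderOf x ≠ 1 := fun h => hx1 (orderOf_eq_one_iff.mp h)
    obtain ⟨y, -, hy, -⟩ := PSL2.centralizer_torus (x := e x) 3
      (by rw [hxo]; exact fun h => ((Nat.dvd_prime (by norm_num)).mp h).elim hne h3)
      (by rw [hxo]; have := orderOf_pos x; rcases hx with ⟨j, hj⟩; omega)
    have hes : e s ∈ Subgroup.zpowers y := hy ▸ hmem hsx
    have het : e t ∈ Subgroup.zpowers y := hy ▸ hmem htx
    have hes2 : (⟨e s, hes⟩ : ↥(Subgroup.zpowers y)) ^ 2 = 1 := Subtype.ext (by simp [← map_pow, hs])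
    have het2 : (⟨e t, het⟩ : ↥(Subgroup.zpowers y)) ^ 2 = 1 := Subtype.ext (by simp [← map_pow, ht])
    letI := Fintype.ofFinite ↥(Subgroup.zpowers y)
    have hle := IsCyclic.card_pow_eq_one_le (α := ↥(Subgroup.zpowers y)) (n := 2) two_pos
    have h3' : ({1, ⟨e s, hes⟩, ⟨e t, het⟩} : Finset ↥(Subgroup.zpowers y)).card = 3 := by
      rw [Finset.card_insert_of_notMem, Finset.card_insert_of_notMem, Finset.card_singleton]
      · simp only [Finset.mem_singleton, Subtype.ext_iff]
        exact fun h => hts (e.injective h).symm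
      · simp only [Finset.mem_insert, Finset.mem_singleton, Subtype.ext_iff, Subgroup.coe_one]
        rintro (h | h)
        · exact hs1 (e.injective (by rw [← h, map_one]))
        · exact ht1 (e.injective (by rw [← h, map_one]))
    have h4' : ({1, ⟨e s, hes⟩, ⟨e t, het⟩} : Finset ↥(Subgroup.zpowers y)) ⊆
        Finset.univ.filter fun a => a ^ 2 = 1 := by
      intro a ha
      simp only [Finset.mem_insert, Finset.mem_singleton] at ha
      rcases ha with rfl | rfl | rfl <;> simp [hes2, het2]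
    have := (Finset.card_le_card h4').trans hle
    omega

/-- An odd element inverted by an involutory automorphism, and fixed or inverted by a family. -/
theorem psl_exists_inverted_inner {L : Type*} [Group L] [Finite L] {F : Type} [Field F] [Fintype F]
    {n : ℕ} (hn : 1 ≤ n) (hF : Fintype.card F = 3 ^ (2 * n + 1))
    (e : L ≃* ProjectiveSpecialLinearGroup (Fin 2) F)
    (K : Subgroup L) (hKab : ∀ x ∈ K, ∀ y ∈ K, x * y = y * x) (hK2 : ∀ x ∈ K, x ^ 2 = 1)
    (hK : 4 ≤ Nat.card K) :
    ∃ x : L, x ≠ 1 ∧ Odd (orderOf x) ∧ ∀ k ∈ K, k * x * k⁻¹ = x ∨ k * x * k⁻¹ = x⁻¹ := by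
  classical
  haveI : Fact (Nat.Prime 2) := ⟨Nat.prime_two⟩
  haveI : Fact (Nat.Prime 3) := ⟨by norm_num⟩
  haveI : CharP F 3 := NatSL2.charP_of_card hF
  have hodd : Odd (Nat.card F) := by
    rw [Nat.card_eq_fintype_card, hF]; exact Odd.pow (by decide)
  have h4 : Nat.card F % 4 = 3 := by
    rw [Nat.card_eq_fintype_card, hF, pow_succ, pow_mul, Nat.mul_mod, Nat.pow_mod]
    norm_num
  -- two involutions in `K`
  obtain ⟨s, hsK, hs1⟩ : ∃ s ∈ K, s ≠ 1 := by
    by_contra hall
    push Not at hall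
    rw [(Subgroup.eq_bot_iff_forall K).mpr hall, Subgroup.card_bot] at hK
    omega
  have hs2 : orderOf s = 2 := orderOf_eq_prime (hK2 s hsK) hs1
  obtain ⟨t, htK, htne⟩ : ∃ t ∈ K, t ∉ Subgroup.zpowers s := by
    by_contra hall
    push Not at hall
    have := Nat.card_le_card_of_injective _ (Subgroup.inclusion_injective (hall : K ≤ Subgroup.zpowers s))
    rw [Nat.card_zpowers, hs2] at this
    omega
  have ht1 : t ≠ 1 := fun h => htne (h ▸ one_mem _)
  have hts : t ≠ s := fun h => htne (h ▸ Subgroup.mem_zpowers s)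
  set C := Subgroup.centralizer ({s} : Set L) with hC
  have hKC : K ≤ C := fun x hx => Subgroup.mem_centralizer_singleton_iff.mpr (hKab x hx s hsK)
  have hcardC : Nat.card C = Nat.card F + 1 := by
    rw [← (PSL2.card_centralizer_involution hodd (x := e s)
      (by rw [MulEquiv.orderOf_eq, hs2])).2 h4]
    refine Nat.card_congr ((C.equivMapOfInjective e.toMonoidHom e.injective).toEquiv.trans
      (Equiv.setCongr ?_))
    ext x
    constructor
    · rintro ⟨c, hc, rfl⟩
      exact Subgroup.mem_centralizer_singleton_iff.mpr (by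
        show e c * e s = e s * e c
        rw [← map_mul, ← map_mul, Subgroup.mem_centralizer_singleton_iff.mp hc])
    · intro hx
      refine ⟨e.symm x, Subgroup.mem_centralizer_singleton_iff.mpr (e.injective ?_), e.apply_symm_apply x⟩
      rw [map_mul, map_mul, e.apply_symm_apply]
      exact Subgroup.mem_centralizer_singleton_iff.mp hx
  -- `|C| = 4 · odd`
  obtain ⟨k, hk, hk7⟩ : ∃ k, Nat.card C = 4 * k ∧ 7 ≤ k ∧ Odd k := by
    rw [hcardC, Nat.card_eq_fintype_card, hF]
    have h8 : 3 ^ (2 * n + 1) % 8 = 3 := by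
      rw [pow_succ, pow_mul, Nat.mul_mod, Nat.pow_mod]; norm_num
    have h27 : 27 ≤ 3 ^ (2 * n + 1) :=
      le_trans (by norm_num) (Nat.pow_le_pow_right (by norm_num) (show 3 ≤ 2 * n + 1 by omega))
    refine ⟨(3 ^ (2 * n + 1) + 1) / 4, by omega, by omega, Nat.odd_iff.mpr (by omega)⟩
  obtain ⟨hk7, hkodd⟩ := hk7
  have hKcard : Nat.card K = 4 := by
    have hKp : IsPGroup 2 K := isPGroup_two hK2
    obtain ⟨i, hi⟩ := IsPGroup.iff_card.mp hKp
    have hdvd : Nat.card K ∣ 4 * k := hk ▸ Subgroup.card_dvd_of_le hKC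
    rw [hi] at hdvd hK ⊢
    have h5 : 2 ^ i ∣ 4 := ((Nat.coprime_two_left.mpr hkodd).pow_left i).dvd_of_dvd_mul_right hdvd
    have := Nat.le_of_dvd (by norm_num) h5
    omega
  -- an odd element inverted by `t` in `C`
  by_cases hBS : ∀ g : ↥C, IsPGroup 2 ↥(Subgroup.closure ({⟨t, hKC htK⟩, g * ⟨t, hKC htK⟩ * g⁻¹} : Set ↥C))
  · exfalso
    set N := (Subgroup.normalClosure ({⟨t, hKC htK⟩} : Set ↥C)) with hN
    have hNp : IsPGroup 2 ↥N := Involution.baer_suzuki_element _ hBS
    set S' := Subgroup.zpowers (⟨s, hKC hsK⟩ : ↥C)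
    haveI hS'n : S'.Normal := by
      refine ⟨fun x hx g => ?_⟩
      obtain ⟨i, rfl⟩ := Subgroup.mem_zpowers_iff.mp hx
      have : Commute g (⟨s, hKC hsK⟩ : ↥C) := Subtype.ext (Subgroup.mem_centralizer_singleton_iff.mp g.2)
      rw [(this.zpow_right i).eq, mul_inv_cancel_right]
      exact Subgroup.zpow_mem _ (Subgroup.mem_zpowers _) i
    have hS'p : IsPGroup 2 ↥S' := IsPGroup.of_card (n := 1) (by
      rw [Nat.card_zpowers, ← Subgroup.orderOf_coe]; exact hs2.trans (pow_one 2).symm)
    have hXp : IsPGroup 2 ↥(N ⊔ S') := hNp.to_sup_of_normal_right hS'p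
    have hKX : K.subgroupOf C = N ⊔ S' := by
      have hs' : (⟨s, hKC hsK⟩ : ↥C) ∈ N ⊔ S' := Subgroup.mem_sup_right (Subgroup.mem_zpowers _)
      have ht' : (⟨t, hKC htK⟩ : ↥C) ∈ N ⊔ S' :=
        Subgroup.mem_sup_left (Subgroup.subset_normalClosure rfl)
      refine Subgroup.eq_of_le_of_card_ge ?_ ?_
      · intro x hx
        rcases klein_mem hK2 hKcard hsK hs1 htK ht1 hts (Subgroup.mem_subgroupOf.mp hx) with h | h | h | h
        · rw [show x = 1 from Subtype.ext h]; exact one_mem _
        · rw [show x = ⟨s, hKC hsK⟩ from Subtype.ext h]; exact hs'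
        · rw [show x = ⟨t, hKC htK⟩ from Subtype.ext h]; exact ht'
        · rw [show x = ⟨s, hKC hsK⟩ * ⟨t, hKC htK⟩ from Subtype.ext h]; exact mul_mem hs' ht'
      · obtain ⟨j, hj⟩ := IsPGroup.iff_card.mp hXp
        have hdvd : Nat.card ↥(N ⊔ S') ∣ 4 * k := hk ▸ Subgroup.card_subgroup_dvd_card _
        rw [hj] at hdvd ⊢
        rw [Nat.card_congr (Subgroup.subgroupOfEquivOfLe hKC).toEquiv, hKcard]
        exact Nat.le_of_dvd (by norm_num)
          (((Nat.coprime_two_left.mpr hkodd).pow_left j).dvd_of_dvd_mul_right hdvd)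
    -- an element of odd prime order
    haveI : Fact (Nat.Prime k.minFac) := ⟨Nat.minFac_prime (by omega)⟩
    obtain ⟨u, hu⟩ := exists_prime_orderOf_dvd_card' (G := ↥C) k.minFac
      (by rw [hk]; exact Dvd.dvd.mul_left (Nat.minFac_dvd k) 4)
    have hrodd : Odd k.minFac := hkodd.of_dvd_nat (Nat.minFac_dvd k)
    have hr3 : 3 ≤ k.minFac := by
      have := (Fact.out : (k.minFac).Prime).two_le
      rcases hrodd with ⟨i, hi⟩
      omega
    -- it fixes `t`
    have hut : Commute (u : L) t := by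
      haveI : N.Normal := Subgroup.normalClosure_normal
      haveI hNS : (N ⊔ S').Normal := Subgroup.sup_normal N S'
      have h1 : ∀ g : ↥C, (g : L) * t * (g : L)⁻¹ ∈ K := fun g => by
        have : g * ⟨t, hKC htK⟩ * g⁻¹ ∈ K.subgroupOf C := by
          refine hKX.ge ?_
          exact hNS.conj_mem _ (Subgroup.mem_sup_left (Subgroup.subset_normalClosure rfl)) g
        exact Subgroup.mem_subgroupOf.mp this
      -- the images of `t` under powers of `u` are `t` or `s * t`
      have h2 : ∀ g : ↥C, (g : L) * t * (g : L)⁻¹ = t ∨ (g : L) * t * (g : L)⁻¹ = s * t := by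
        intro g
        have hgs : Commute (g : L) s := Subgroup.mem_centralizer_singleton_iff.mp g.2
        rcases klein_mem hK2 hKcard hsK hs1 htK ht1 hts (h1 g) with h | h | h | h
        · exact absurd (conj_eq_one_iff.mp h) ht1
        · refine absurd ?_ hts
          have : t = (g : L)⁻¹ * s * g := by rw [← h]; group
          rw [this, hgs.inv_left.eq, inv_mul_cancel_right]
        · exact Or.inl h
        · exact Or.inr h
      rcases h2 u with h | h
      · exact mul_inv_eq_iff_eq_mul.mp h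
      exfalso
      have hus : Commute (u : L) s := Subgroup.mem_centralizer_singleton_iff.mp u.2
      have hpow : ∀ j : ℕ, (u : L) ^ j * t * ((u : L) ^ j)⁻¹ = s ^ j * t := by
        intro j
        induction j with
        | zero => simp
        | succ j ihj =>
          calc (u : L) ^ (j + 1) * t * ((u : L) ^ (j + 1))⁻¹
              = u * ((u : L) ^ j * t * ((u : L) ^ j)⁻¹) * (u : L)⁻¹ := by rw [pow_succ']; group
            _ = (u * s ^ j) * t * (u : L)⁻¹ := by rw [ihj]; group
            _ = s ^ j * (u * t * (u : L)⁻¹) := by rw [(hus.pow_right j).eq]; group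
            _ = s ^ (j + 1) * t := by rw [h, pow_succ, mul_assoc]
      have h3 := hpow k.minFac
      rw [← Subgroup.coe_pow, ← hu, pow_orderOf_eq_one, Subgroup.coe_one, one_mul, inv_one, mul_one,
        right_eq_mul, hu] at h3
      exact hs1 (orderOf_eq_one_iff.mp (Nat.eq_one_of_dvd_coprimes (Nat.coprime_two_left.mpr hrodd)
        hs2.dvd (orderOf_dvd_of_pow_eq_one h3)))
    exact psl_no_fixed hF e (hK2 s hsK) hs1 (hK2 t htK) ht1 hts
      (fun h => by
        have h1 : orderOf u = 1 := by rw [← Subgroup.orderOf_coe, h, orderOf_one]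
        omega)
      (by rw [Subgroup.orderOf_coe, hu]; exact hrodd)
      ((Subgroup.mem_centralizer_singleton_iff.mp u.2).symm) hut.symm
  · push Not at hBS
    obtain ⟨g, hg⟩ := hBS
    set t' : ↥C := ⟨t, hKC htK⟩
    have ht'2 : t' * t' = 1 := Subtype.ext (by show t * t = 1; rw [← pow_two]; exact hK2 t htK)
    set z := t' * (g * t' * g⁻¹) with hz
    have hinv : t' * z * t'⁻¹ = z⁻¹ := by
      rw [inv_eq_of_mul_eq_one_right ht'2, hz]
      calc t' * (t' * (g * t' * g⁻¹)) * t' = (t' * t') * (g * t' * g⁻¹) * t' := by group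
        _ = _ := by rw [ht'2, _root_.mul_inv_rev, conj_inv, inv_eq_of_mul_eq_one_right ht'2]; group
    have hnot : ¬ ∀ w ∈ Subgroup.zpowers z, ∃ i, w ^ 2 ^ i = 1 := by
      intro hall
      refine hg ?_
      set Z := Subgroup.zpowers z
      have hZp : IsPGroup 2 ↥Z := fun w => by
        obtain ⟨i, hi⟩ := hall w w.2
        exact ⟨i, Subtype.ext hi⟩
      have htN : Subgroup.zpowers t' ≤ Subgroup.normalizer (Z : Set ↥C) := by
        rw [Subgroup.zpowers_le, Subgroup.mem_normalizer_iff_map_conj_eq, MonoidHom.map_zpowers]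
        show Subgroup.zpowers (t' * z * t'⁻¹) = _
        rw [hinv, Subgroup.zpowers_inv]
      refine (hZp.to_sup_of_normal_left' (IsPGroup.of_card (n := 1) (G := ↥(Subgroup.zpowers t')) (p := 2) ?_)
        htN).to_le ?_
      · rw [Nat.card_zpowers, pow_one]
        exact orderOf_eq_prime (by rw [pow_two, ht'2]) fun h => ht1 (congrArg Subtype.val h)
      · rw [Subgroup.closure_le]
        rintro _ (rfl | rfl)
        · exact Subgroup.mem_sup_right (Subgroup.mem_zpowers _)
        · have : g * t' * g⁻¹ = t' * z := by rw [hz, ← mul_assoc, ht'2, one_mul]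
          rw [this]
          exact mul_mem (Subgroup.mem_sup_right (Subgroup.mem_zpowers _))
            (Subgroup.mem_sup_left (Subgroup.mem_zpowers _))
    set i := (orderOf z).factorization 2
    set w := z ^ 2 ^ i with hw
    have hwo : Odd (orderOf w) := by
      rw [hw, orderOf_pow_of_dvd (pow_ne_zero _ two_ne_zero) (Nat.ordProj_dvd _ _)]
      exact Nat.coprime_two_left.mp (Nat.coprime_ordCompl Nat.prime_two (orderOf_pos z).ne')
    have hw1 : w ≠ 1 := fun h => hnot fun v hv => by
      obtain ⟨j, rfl⟩ := Subgroup.mem_zpowers_iff.mp hv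
      refine ⟨i, ?_⟩
      rw [← zpow_natCast, ← _root_.zpow_mul, mul_comm, _root_.zpow_mul, zpow_natCast, ← hw, h,
        _root_.one_zpow]
    have hwinv : t' * w * t'⁻¹ = w⁻¹ := by rw [hw, ← conj_pow, hinv, inv_pow]
    refine ⟨(w : L), fun h => hw1 (Subtype.ext h), by rwa [Subgroup.orderOf_coe], ?_⟩
    have hsw : Commute s (w : L) := ((Subgroup.mem_centralizer_singleton_iff.mp w.2)).symm
    have hKeq : ∀ x ∈ K, x = 1 ∨ x = s ∨ x = t ∨ x = s * t := fun x hx =>
      klein_mem hK2 hKcard hsK hs1 htK ht1 hts hx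
    intro x hx
    have hti : t * (w : L) * t⁻¹ = (w : L)⁻¹ := congrArg Subtype.val hwinv
    rcases hKeq x hx with rfl | rfl | rfl | rfl
    · left; simp
    · left; rw [hsw.eq, mul_inv_cancel_right]
    · right; exact hti
    · right
      calc s * t * (w : L) * (s * t)⁻¹ = s * (t * (w : L) * t⁻¹) * s⁻¹ := by group
        _ = _ := by rw [hti, hsw.inv_right.eq, mul_inv_cancel_right]

/-- Elementary abelian automorphism groups of `PSL₂(3^odd)` without `S₃` inside `Inn · ⟨α⟩`. -/
theorem psl_exists_inverted {L : Type*} [Group L] [Finite L] (hL : IsSimpleGroup L)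
    (hnc : ¬ IsMulCommutative L) {F : Type} [Field F] [Fintype F] {n : ℕ}
    (hF : Fintype.card F = 3 ^ (2 * n + 1)) (e : L ≃* ProjectiveSpecialLinearGroup (Fin 2) F)
    (E : Subgroup (MulAut L)) (hE : Cfsg.IsElementaryAbelian 2 E) (hE1 : E ≠ ⊥)
    (hS : ∀ α ∈ E, ∀ t ∈ (MulAut.conj : L →* MulAut L).range ⊔ Subgroup.zpowers α,
      ∀ y ∈ (MulAut.conj : L →* MulAut L).range ⊔ Subgroup.zpowers α,
        t * t = 1 → orderOf y = 3 → t * y * t⁻¹ = y⁻¹ → False) :
    ∃ x : L, x ≠ 1 ∧ Odd (orderOf x) ∧ (∀ α ∈ E, α x = x ∨ α x = x⁻¹) ∧ ∃ α ∈ E, α x = x⁻¹ := by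
  classical
  haveI : Fact (Nat.Prime 2) := ⟨Nat.prime_two⟩
  haveI : Fact (Nat.Prime 3) := ⟨by norm_num⟩
  have hn : 1 ≤ n := by
    by_contra h
    obtain rfl : n = 0 := by omega
    have hodd : Odd (Nat.card F) := by rw [Nat.card_eq_fintype_card, hF]; decide
    have h12 : Nat.card L = 2 ^ 2 * 3 := by
      have := GLOrder.card_PSL_two_of_odd (F := F) hodd
      rw [Nat.card_eq_fintype_card (α := F), hF] at this
      rw [Nat.card_congr e.toEquiv]
      norm_num at this ⊢
      omega
    haveI : Group.IsSolvable L := CharApp.isSolvable_of_card_eq_prime_pow_mul 2 3 Nat.prime_two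
      (by norm_num) _ L h12 2 1 (by norm_num)
    exact hnc ⟨⟨fun a b => IsSimpleGroup.comm_iff_isSolvable.mpr inferInstance a b⟩⟩
  have hinj : Function.Injective (MulAut.conj : L →* MulAut L) := by
    rw [injective_iff_map_eq_one]
    intro z hz
    haveI := hL
    rcases (Subgroup.center L).normal_of_characteristic.eq_bot_or_eq_top with h | h
    · rw [← Subgroup.mem_bot, ← h, Subgroup.mem_center_iff]
      intro g
      have := congrArg (fun f : MulAut L => f g) hz
      simp only [MulAut.conj_apply, MulAut.one_apply] at this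
      exact (mul_inv_eq_iff_eq_mul.mp this).symm
    · exact absurd ⟨⟨fun a b => Subgroup.mem_center_iff.mp (h ▸ Subgroup.mem_top b) a⟩⟩ hnc
  haveI : CharP F 3 := NatSL2.charP_of_card hF
  -- every element is inner
  have hin : ∀ α ∈ E, ∃ k : L, α = MulAut.conj k := by
    intro α hα
    let c : MulAut L ≃* MulAut (ProjectiveSpecialLinearGroup (Fin 2) F) := MulAut.congr e
    obtain ⟨g, σ, hgσ⟩ := AutPSL.exists_semi_of_two (c α)
    have hα2 : c α * c α = 1 := by
      rw [← map_mul, ← pow_two, hE.2 α hα, map_one]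
    rw [hgσ, AutPSL.semi_mul, AutPSL.semi_eq_one_iff] at hα2
    have hσ : σ = RingEquiv.refl F := by
      have hdvd : orderOf (σ : RingAut F) ∣ 2 := orderOf_dvd_of_pow_eq_one (RingEquiv.ext fun x => by
        rw [pow_two]; exact RingEquiv.congr_fun hα2.1 x)
      obtain ⟨hc, -⟩ := AutPSL.fieldAut_facts (F := F) (p := 3) (f := 2 * n + 1) (by omega)
        hF |> fun h => (⟨h.2, h.1⟩ : _ ∧ _)
      have hdvd2 : orderOf (σ : RingAut F) ∣ 2 * n + 1 := by
        rw [← hc]; exact orderOf_dvd_natCard _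
      exact orderOf_eq_one_iff.mp (Nat.eq_one_of_dvd_coprimes (Nat.coprime_two_left.mpr ⟨n, rfl⟩) hdvd hdvd2)
    subst hσ
    -- inner or `-1` times inner
    have hsplit : ∃ (lam : Fˣ) (S : Matrix.SpecialLinearGroup (Fin 2) F) (ε : Fˣ),
        (ε = 1 ∨ ε = -1) ∧ (g : Matrix (Fin 2) (Fin 2) F) =
          (lam : F) • ((S : Matrix (Fin 2) (Fin 2) F) * !![(ε : F), 0; 0, 1]) := by
      set d := (g : Matrix (Fin 2) (Fin 2) F).det with hd
      have hd0 : d ≠ 0 := by
        intro h
        have := congrArg (fun M : Matrix (Fin 2) (Fin 2) F => M.det) g.mul_inv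
        simp only [Matrix.det_mul, Matrix.det_one, ← hd, h, zero_mul] at this
        exact zero_ne_one this
      have h2 : ringChar F ≠ 2 := by rw [ringChar.eq F 3]; norm_num
      have hns : ¬ IsSquare (-1 : F) := by
        rw [FiniteField.isSquare_neg_one_iff, hF, not_ne_iff, pow_succ, pow_mul, Nat.mul_mod, Nat.pow_mod]
        norm_num
      obtain ⟨ε, hε, lam, hlam⟩ : ∃ ε : Fˣ, (ε = 1 ∨ ε = -1) ∧ ∃ lam : F, lam ^ 2 * ε = d := by
        by_cases hsq : IsSquare d
        · obtain ⟨r, hr⟩ := hsq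
          exact ⟨1, Or.inl rfl, r, by rw [Units.val_one, mul_one, hr, pow_two]⟩
        · obtain ⟨r, hr⟩ : IsSquare (-d) := by
            rcases quadraticChar_dichotomy (F := F) hd0 with h | h
            · exact absurd ((quadraticChar_one_iff_isSquare hd0).mp h) hsq
            · refine (quadraticChar_one_iff_isSquare (neg_ne_zero.mpr hd0)).mp ?_
              rw [show -d = (-1) * d by ring, map_mul, h, quadraticChar_neg_one_iff_not_isSquare.mpr hns]
              norm_num
          exact ⟨-1, Or.inr rfl, r, by rw [Units.val_neg, Units.val_one, ← sq] at *; linear_combination hr⟩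
      have hlam0 : lam ≠ 0 := by rintro rfl; exact hd0 (by rw [← hlam]; ring)
      refine ⟨Units.mk0 lam hlam0, ⟨lam⁻¹ • ((g : Matrix (Fin 2) (Fin 2) F) * !![((ε⁻¹ : Fˣ) : F), 0; 0, 1]), ?_⟩,
        ε, hε, ?_⟩
      · rw [Matrix.det_smul, Matrix.det_mul, Matrix.det_fin_two_of, ← hd, Fintype.card_fin, ← hlam]
        field_simp
        simp
      · have hεε : ((ε⁻¹ : Fˣ) : F) * ε = 1 := Units.inv_mul ε
        show (g : Matrix (Fin 2) (Fin 2) F) = lam • (lam⁻¹ • ((g : Matrix (Fin 2) (Fin 2) F) *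
          !![((ε⁻¹ : Fˣ) : F), 0; 0, 1]) * !![(ε : F), 0; 0, 1])
        rw [Matrix.smul_mul, smul_smul, mul_inv_cancel₀ hlam0, one_smul, mul_assoc,
          Matrix.mul_fin_two]
        simp only [mul_zero, zero_mul, add_zero, zero_add, mul_one, hεε]
        rw [← Matrix.one_fin_two, mul_one]
    obtain ⟨lam, S, ε, hε, hg⟩ := hsplit
    have hεsq : !![(ε : F), 0; 0, 1] * !![(ε : F), 0; 0, 1] = 1 := by
      rcases hε with rfl | rfl <;> simp [Matrix.one_fin_two]
    let dg : GL (Fin 2) F := ⟨!![(ε : F), 0; 0, 1], !![(ε : F), 0; 0, 1], hεsq, hεsq⟩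
    have hgeq : g = Matrix.GeneralLinearGroup.scalar (Fin 2) lam *
        (Matrix.SpecialLinearGroup.toGL S * dg) := by
      refine Units.ext ?_
      rw [hg]
      ext i j
      fin_cases i <;> fin_cases j <;> simp [dg, Matrix.GeneralLinearGroup.scalar, Matrix.mul_apply,
        Fin.sum_univ_two, Matrix.scalar_apply]
    have hsemiS : AutPSL.semi (Matrix.SpecialLinearGroup.toGL S) (RingEquiv.refl F) =
        MulAut.conj (AutPSL.proj (Fin 2) F S) := by
      refine MulEquiv.ext fun x => ?_
      obtain ⟨y, rfl⟩ := AutPSL.proj_surjective x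
      rw [MulAut.conj_apply, ← map_inv, ← map_mul, ← map_mul]
      refine AutPSL.semi_proj_eq _ _ ?_
      rw [Matrix.SpecialLinearGroup.coe_mul, Matrix.SpecialLinearGroup.coe_mul, RingEquiv.coe_refl,
        Matrix.map_id, ← map_inv]
      rfl
    have hcα : c α = MulAut.conj (AutPSL.proj (Fin 2) F S) * AutPSL.semi dg (RingEquiv.refl F) := by
      rw [hgσ, hgeq, ← AutPSL.semi_refl_mul, ← AutPSL.semi_refl_mul,
        show AutPSL.semi (Matrix.GeneralLinearGroup.scalar (Fin 2) lam) (RingEquiv.refl F) = 1 from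
          AutPSL.semi_scalar (m := 0) lam, one_mul, hsemiS]
    have hcsymm : ∀ x, c.symm (MulAut.conj x) = MulAut.conj (e.symm x) := fun x =>
      MulEquiv.ext fun y => e.injective (by simp [c, MulAut.congr, MulAut.conj_apply])
    rcases hε with rfl | rfl
    · refine ⟨e.symm (AutPSL.proj (Fin 2) F S), c.injective ?_⟩
      rw [hcα, show dg = 1 from Units.ext (by simp [dg, Matrix.one_fin_two]),
        AutPSL.semi_one, mul_one, ← hcsymm, MulEquiv.apply_symm_apply]
    exfalso
    let β := c.symm (AutPSL.semi dg (RingEquiv.refl F))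
    set X := (MulAut.conj : L →* MulAut L).range ⊔ Subgroup.zpowers α
    have hβ : β ∈ X := by
      have : β = (MulAut.conj (e.symm (AutPSL.proj (Fin 2) F S)))⁻¹ * α := by
        rw [eq_inv_mul_iff_mul_eq, ← hcsymm]
        show c.symm _ * c.symm _ = α
        rw [← map_mul, ← hcα, MulEquiv.symm_apply_apply]
      rw [this]
      exact mul_mem (inv_mem (Subgroup.mem_sup_left ⟨_, rfl⟩)) (Subgroup.mem_sup_right (Subgroup.mem_zpowers α))
    -- the transvection
    let T : ProjectiveSpecialLinearGroup (Fin 2) F := AutPSL.proj (Fin 2) F (QdOver.up (1 : F))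
    have hT1 : T ≠ 1 := by
      intro h
      obtain ⟨r, -, hr⟩ := Matrix.SpecialLinearGroup.mem_center_iff.mp ((QuotientGroup.eq_one_iff _).mp h)
      have := congrFun (congrFun hr 0) 1
      simp [QdOver.up] at this
    have hT3 : T ^ 3 = 1 := by
      rw [← map_pow, show QdOver.up (1 : F) ^ 3 = 1 from Subtype.ext (by
        have h3 : (1 : F) + 1 + 1 = 0 := by
          have := CharP.cast_eq_zero F 3
          norm_num at this
          linear_combination this
        show _ = (1 : Matrix (Fin 2) (Fin 2) F)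
        rw [Matrix.SpecialLinearGroup.coe_pow]
        simp [QdOver.up, pow_succ, Matrix.one_fin_two]
        linear_combination h3), map_one]
    have hdgT : AutPSL.semi dg (RingEquiv.refl F) T = T⁻¹ := by
      rw [← map_inv]
      refine AutPSL.semi_proj_eq _ _ ?_
      rw [Matrix.SpecialLinearGroup.coe_inv]
      simp [QdOver.up, dg, Matrix.adjugate_fin_two_of, Matrix.inv_def,
        Matrix.det_fin_two_of]
    have hdg2 : AutPSL.semi dg (RingEquiv.refl F) * AutPSL.semi dg (RingEquiv.refl F) = 1 := by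
      rw [AutPSL.semi_refl_mul, show dg * dg = 1 from Units.ext (by
        simp [dg, Matrix.one_fin_two]), AutPSL.semi_one]
    refine hS α hα β hβ (MulAut.conj (e.symm T)) (Subgroup.mem_sup_left ⟨_, rfl⟩) ?_ ?_ ?_
    · show c.symm _ * c.symm _ = 1
      rw [← map_mul, hdg2, map_one]
    · rw [orderOf_injective _ hinj, MulEquiv.orderOf_eq]
      exact orderOf_eq_prime hT3 hT1
    · refine MulEquiv.ext fun y => ?_
      have hβc : ∀ z, β * MulAut.conj z * β⁻¹ = MulAut.conj (β z) := fun z =>
        MulEquiv.ext fun w => by simp [MulAut.conj_apply, map_mul]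
      rw [hβc, ← map_inv]
      congr 2
      refine e.injective ?_
      show e (e.symm (AutPSL.semi dg (RingEquiv.refl F) (e (e.symm T)))) = _
      rw [e.apply_symm_apply, e.apply_symm_apply, hdgT, map_inv, e.apply_symm_apply]
  set K := E.comap (MulAut.conj : L →* MulAut L)
  have hmap : K.map (MulAut.conj : L →* MulAut L) = E := Subgroup.map_comap_eq_self fun α hα => by
    obtain ⟨k, rfl⟩ := hin α hα
    exact ⟨k, rfl⟩
  have hcard : Nat.card E = Nat.card K := by
    conv_lhs => rw [← hmap]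
    exact (Nat.card_congr (K.equivMapOfInjective _ hinj).toEquiv).symm
  have hEp : IsPGroup 2 E := isPGroup_two hE.2
  obtain ⟨i, hi⟩ := IsPGroup.iff_card.mp hEp
  rcases (show i = 1 ∨ 2 ≤ i by
    rcases i with _ | _ | i
    · exact absurd (Subgroup.card_eq_one.mp (by simpa using hi)) hE1
    · exact Or.inl rfl
    · exact Or.inr (by omega)) with rfl | hi2
  · obtain ⟨⟨α, hα⟩, hne⟩ := (E.ne_bot_iff_exists_ne_one).mp hE1
    have hα1 : α ≠ 1 := fun h => hne (Subtype.ext h)
    obtain ⟨s, rfl⟩ := hin α hα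
    have hs2 : s ^ 2 = 1 := hinj (by rw [map_pow, map_one]; exact hE.2 _ hα)
    haveI := hL
    have hq : Cfsg.IsQuasisimple ↥(⊤ : Subgroup L) := by
      refine (Components.isQuasisimple_congr Subgroup.topEquiv).mpr ?_
      refine ⟨?_, ?_⟩
      · refine ⟨(IsSimpleGroup.eq_bot_or_eq_top_of_normal (commutator L) inferInstance).resolve_left fun h => ?_⟩
        exact hnc ((commutator_eq_bot_iff (G := L)).mp h)
      · rcases (Subgroup.center L).normal_of_characteristic.eq_bot_or_eq_top with h | h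
        · exact MulEquiv.isSimpleGroup ((QuotientGroup.quotientMulEquivOfEq h).trans QuotientGroup.quotientBot)
        · exact absurd ⟨⟨fun a b => Subgroup.mem_center_iff.mp (h ▸ Subgroup.mem_top b) a⟩⟩ hnc
    obtain ⟨x, hxc, m, hm, hxm, hxi⟩ := PGV.exists_inverted hq (b := s)
      (by rw [Subgroup.normalizer_eq_top]; exact Subgroup.mem_top s) hs2 (fun h => hα1 (MulEquiv.ext fun y => h y (Subgroup.mem_top y)))
    refine ⟨x, fun h => hxc (by rw [show x = 1 from Subtype.ext h]; exact one_mem _), ?_, ?_, _, hα, hxi⟩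
    · exact hm.of_dvd_nat (orderOf_dvd_of_pow_eq_one (by rw [← Subgroup.coe_pow, hxm, Subgroup.coe_one]))
    · intro β hβ
      have hEeq : Subgroup.zpowers (MulAut.conj s) = E := by
        refine Subgroup.eq_of_le_of_card_ge (Subgroup.zpowers_le.mpr hα) ?_
        rw [hi, Nat.card_zpowers, pow_one, orderOf_eq_prime (hE.2 _ hα) hα1]
      rw [← hEeq, mem_zpowers_iff_mem_range_orderOf, orderOf_eq_prime (hE.2 _ hα) hα1,
        Finset.mem_image] at hβ
      obtain ⟨j, hj, rfl⟩ := hβ
      rw [Finset.mem_range] at hj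
      interval_cases j
      · left; simp
      · right; rw [pow_one]; exact hxi
  · obtain ⟨x, hx1, hxodd, hxK⟩ := psl_exists_inverted_inner hn hF e K
      (fun a ha b hb => hinj (by
        rw [map_mul, map_mul]
        exact (Subgroup.le_centralizer_iff_isMulCommutative.2 hE.1 hb) _ ha))
      (fun a ha => hinj (by rw [map_pow, map_one]; exact hE.2 _ ha))
      (by rw [← hcard, hi]; calc 4 = 2 ^ 2 := rfl
            _ ≤ 2 ^ i := Nat.pow_le_pow_right two_pos hi2)
    refine ⟨x, hx1, hxodd, fun α hα => ?_, ?_⟩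
    · obtain ⟨k, rfl⟩ := hin α hα
      exact hxK k hα
    · by_contra hcon
      push Not at hcon
      -- `K` centralises `x`
      have hall : ∀ k ∈ K, k * x * k⁻¹ = x := fun k hk => (hxK k hk).resolve_right (hcon _ hk)
      have hK2 : ∀ a ∈ K, a ^ 2 = 1 := fun a ha => hinj (by rw [map_pow, map_one]; exact hE.2 _ ha)
      have h4 : 4 ≤ Nat.card K := by
        rw [← hcard, hi]; exact le_trans (by norm_num : 4 ≤ 2 ^ 2) (Nat.pow_le_pow_right two_pos hi2)
      obtain ⟨s, hsK, hs1⟩ : ∃ s ∈ K, s ≠ 1 := by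
        by_contra hall'
        push Not at hall'
        rw [(Subgroup.eq_bot_iff_forall K).mpr hall', Subgroup.card_bot] at h4
        omega
      obtain ⟨t, htK, htne⟩ : ∃ t ∈ K, t ∉ Subgroup.zpowers s := by
        by_contra hall'
        push Not at hall'
        have := Nat.card_le_card_of_injective _ (Subgroup.inclusion_injective (hall' : K ≤ Subgroup.zpowers s))
        rw [Nat.card_zpowers, orderOf_eq_prime (hK2 s hsK) hs1] at this
        omega
      exact psl_no_fixed hF e (hK2 s hsK) hs1 (hK2 t htK) (fun h => htne (h ▸ one_mem _))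
        (fun h => htne (h ▸ Subgroup.mem_zpowers s)) hx1 hxodd
        (mul_inv_eq_iff_eq_mul.mp (hall s hsK)) (mul_inv_eq_iff_eq_mul.mp (hall t htK))

end Cfsg.Agent.SThreeFree
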