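/-
Displacement bounds for elementary abelian 2-groups acting on 2-groups.

Main results (namespace `Cfsg.Agent.SThreeFree`):
* `Good`            : a hyperplane-type step `B < A` with a lower bound for one element's displacement
* `bounds_of_good`  : if every nontrivial elementary abelian 2-subgroup has such a step then
                      `|A|² |C_M(A)| ≤ |M|` and `|A|² ≤ |[M, A]|`
-/
import Mathlib
import Cfsg.Prelude.Def_LocalEven
import Cfsg.Agent.EqLemmas

set_option autoImplicit false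

namespace Cfsg.Agent.SThreeFree

open scoped commutatorElement

universe u

variable {L : Type u} [Group L]

/-- The fixed points of an automorphism. -/
def fixOf {V : Type*} [Group V] (φ : MulAut V) : Subgroup V where
  carrier := {v | φ v = v}
  one_mem' := map_one φ
  mul_mem' := by
    intro a b ha hb
    show φ (a * b) = a * b
    rw [map_mul, show φ a = a from ha, show φ b = b from hb]
  inv_mem' := by
    intro a ha
    show φ a⁻¹ = a⁻¹
    rw [map_inv, show φ a = a from ha]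

theorem mem_fixOf {V : Type*} [Group V] {φ : MulAut V} {v : V} : v ∈ fixOf φ ↔ φ v = v := Iff.rfl

/-- Displacement of an element `a` of `C` on every 2-group on which `C` acts with no odd kernel. -/
def Moves {C : Type u} [Group C] (a : C) (N : ℕ) : Prop :=
  ∀ (V : Type u) [Group V] [Finite V], IsPGroup 2 V → ∀ φ : C →* MulAut V,
    (∀ x : C, φ x = 1 → Odd (orderOf x) → x = 1) → N ≤ (fixOf (φ a)).index

/-- A step for `A`: a proper subgroup `B` and an element of `A` moving at least `|A : B|²`. -/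
def Good (A : Subgroup L) : Prop :=
  ∃ B : Subgroup L, B ≤ A ∧ B ≠ A ∧ ∃ a : ↥(Subgroup.centralizer (B : Set L)),
    (a : L) ∈ A ∧ Moves a (B.relIndex A ^ 2)

/-- An element of odd prime order `r` moves `2^d` with `r ∣ 2^d - 1`. -/
theorem exists_dvd_index {V : Type*} [Group V] [Finite V] (hV : IsPGroup 2 V) {r : ℕ} (hr : r.Prime)
    (hr2 : r ≠ 2) {z : MulAut V} (hz : orderOf z = r) :
    ∃ d : ℕ, 0 < d ∧ r ∣ 2 ^ d - 1 ∧ (fixOf z).index = 2 ^ d := by
  haveI := Fact.mk hr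
  haveI := Fact.mk Nat.prime_two
  obtain ⟨k, hk⟩ := IsPGroup.iff_card.mp hV
  obtain ⟨j, hj, hidx⟩ := (Nat.dvd_prime_pow Nat.prime_two).mp (hk ▸ Subgroup.index_dvd_card (fixOf z))
  refine ⟨j, ?_, ?_, hidx⟩
  · refine Nat.pos_of_ne_zero fun h0 => hr.ne_one ?_
    rw [← hz, orderOf_eq_one_iff]
    rw [h0, pow_zero, Subgroup.index_eq_one] at hidx
    exact MulEquiv.ext fun v => (hidx ▸ Subgroup.mem_top v : v ∈ fixOf z)
  · have hzp : IsPGroup r ↥(Subgroup.zpowers z) :=
      IsPGroup.of_card (n := 1) (by rw [Nat.card_zpowers, hz, pow_one])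
    have h1 := hzp.card_modEq_card_fixedPoints V
    have hset : (MulAction.fixedPoints ↥(Subgroup.zpowers z) V) = (fixOf z : Set V) := by
      ext v
      constructor
      · intro hv
        exact hv ⟨z, Subgroup.mem_zpowers z⟩
      · intro hv w
        have : Subgroup.zpowers z ≤ MulAction.stabilizer (MulAut V) v := by
          rw [Subgroup.zpowers_le]
          exact hv
        exact this w.2
    rw [hset] at h1
    have h2 : Nat.card ↥(fixOf z) * 2 ^ j = Nat.card V := by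
      rw [← hidx, Subgroup.card_mul_index]
    have h3 : Nat.card V ≡ Nat.card ↥(fixOf z) [MOD r] := h1
    rw [← h2] at h3
    have h4 : r ∣ Nat.card ↥(fixOf z) * 2 ^ j - Nat.card ↥(fixOf z) :=
      (Nat.modEq_iff_dvd' (Nat.le_mul_of_pos_right _ (pow_pos two_pos _))).mp h3.symm
    rw [← Nat.mul_sub_one] at h4
    refine (hr.dvd_mul.mp h4).resolve_left fun h => hr2 ?_
    obtain ⟨i, -, hi⟩ := (Nat.dvd_prime_pow Nat.prime_two).mp
      (hk ▸ Subgroup.card_subgroup_dvd_card (fixOf z))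
    rw [hi] at h
    exact (Nat.prime_dvd_prime_iff_eq hr Nat.prime_two).mp (hr.dvd_of_dvd_pow h)

/-- Conjugate automorphisms have fixed points of the same index. -/
theorem index_fixOf_conj {V : Type*} [Group V] (g φ : MulAut V) :
    (fixOf (g * φ * g⁻¹)).index = (fixOf φ).index := by
  have : fixOf (g * φ * g⁻¹) = (fixOf φ).comap (g.symm : V ≃* V).toMonoidHom := by
    ext v
    show g (φ (g.symm v)) = v ↔ φ (g.symm v) = g.symm v
    exact g.apply_eq_iff_symm_apply.trans Iff.rfl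
  rw [this, Subgroup.index_comap_of_surjective _ (g.symm : V ≃* V).surjective]

/-- Two conjugates of `a` multiplying to an element with an element of order `r` in its powers. -/
theorem moves_of_conjugates {C : Type u} [Group C] [Finite C] {a h₁ h₂ z : C} {r N : ℕ} (hr : r.Prime)
    (hr2 : r ≠ 2) (hz : orderOf z = r) {k : ℕ}
    (hzdef : z = ((h₁ * a * h₁⁻¹) * (h₂ * a * h₂⁻¹)) ^ k)
    (hN : ∀ d : ℕ, 0 < d → r ∣ 2 ^ d - 1 → ∀ j : ℕ, 2 ^ d ≤ (2 ^ j) ^ 2 → N ≤ 2 ^ j) :
    Moves a N := by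
  intro V _ _ hV φ hker
  haveI := Fact.mk Nat.prime_two
  have hzo : orderOf (φ z) = r := by
    rcases (Nat.dvd_prime hr).mp (hz ▸ orderOf_map_dvd φ z) with h | h
    · exfalso
      have h1 := hker z (orderOf_eq_one_iff.mp h) (hz ▸ hr.odd_of_ne_two hr2)
      rw [h1, orderOf_one] at hz
      exact hr.ne_one hz.symm
    · exact h
  obtain ⟨d, hd, hdvd, hidx⟩ := exists_dvd_index hV hr hr2 hzo
  obtain ⟨i, hi⟩ := IsPGroup.iff_card.mp hV
  obtain ⟨j, -, hj⟩ := (Nat.dvd_prime_pow Nat.prime_two).mp (hi ▸ Subgroup.index_dvd_card (fixOf (φ a)))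
  rw [hj]
  refine hN d hd hdvd j ?_
  rw [← hidx, ← hj]
  have hle : fixOf (φ (h₁ * a * h₁⁻¹)) ⊓ fixOf (φ (h₂ * a * h₂⁻¹)) ≤ fixOf (φ z) := by
    intro v hv
    rw [hzdef, map_pow, map_mul]
    have : (φ (h₁ * a * h₁⁻¹) * φ (h₂ * a * h₂⁻¹)) ∈ MulAction.stabilizer (MulAut V) v :=
      mul_mem (hv.1 : φ (h₁ * a * h₁⁻¹) ∈ MulAction.stabilizer (MulAut V) v) hv.2
    exact pow_mem this k
  refine le_trans (Nat.le_of_dvd (Nat.pos_of_ne_zero Subgroup.index_ne_zero_of_finite)
    (Subgroup.index_dvd_of_le hle)) ?_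
  refine Subgroup.index_inf_le.trans ?_
  rw [map_mul, map_mul, map_inv, map_mul, map_mul, map_inv, index_fixOf_conj, index_fixOf_conj, sq]

/-- A 2-group `K` normalised by a 2-group `B` with `K ≤ [K, B]` is trivial. -/
theorem eq_bot_of_le_commutator {K B : Subgroup L} [Finite L] (hK : IsPGroup 2 K) (hB : IsPGroup 2 B)
    (hBK : B ≤ Subgroup.normalizer (K : Set L)) (h : K ≤ ⁅K, B⁆) : K = ⊥ := by
  haveI := Fact.mk Nat.prime_two
  set X := K ⊔ B
  have hX : IsPGroup 2 ↥X := hK.to_sup_of_normal_left' hB hBK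
  haveI : Group.IsNilpotent ↥X := hX.isNilpotent
  obtain ⟨n, hn⟩ := Subgroup.nilpotent_iff_lowerCentralSeries.mp (inferInstance : Group.IsNilpotent ↥X)
  have key : ∀ i, K ≤ ((⊤ : Subgroup ↥X).lowerCentralSeries i).map X.subtype := by
    intro i
    induction i with
    | zero =>
      rw [Subgroup.lowerCentralSeries_zero, ← MonoidHom.range_eq_map, Subgroup.range_subtype]
      exact le_sup_left
    | succ i ih =>
      refine h.trans (le_trans (Subgroup.commutator_mono ih (le_sup_right : B ≤ X)) ?_)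
      rw [Subgroup.lowerCentralSeries_succ,
        Subgroup.map_commutator, ← MonoidHom.range_eq_map, Subgroup.range_subtype]
  rw [eq_bot_iff]
  exact (key n).trans (by rw [hn, Subgroup.map_bot])

/-- Odd elements commuting with a 2-group `B` that fix `C_M(B)` fix the abelian 2-group `M`. -/
theorem fix_of_fix_centralizer [Finite L] {M B : Subgroup L} (hM : IsPGroup 2 M)
    (hMab : M ≤ Subgroup.centralizer (M : Set L)) (hB : IsPGroup 2 B)
    (hBM : B ≤ Subgroup.normalizer (M : Set L)) {x : L} (hxM : x ∈ Subgroup.normalizer (M : Set L))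
    (hxB : x ∈ Subgroup.centralizer (B : Set L)) (hx : Odd (orderOf x))
    (hfix : ∀ v ∈ M ⊓ Subgroup.centralizer (B : Set L), x * v * x⁻¹ = v) :
    x ∈ Subgroup.centralizer (M : Set L) := by
  classical
  haveI := Fact.mk Nat.prime_two
  set r := orderOf x
  let σ : L →* L := (MulAut.conj x).toMonoidHom
  have hcomm : ∀ u ∈ M, ∀ v ∈ M, Commute u v := fun u hu v hv => hMab hv u hu
  -- the norm of `⟨x⟩`
  let e : L → ℕ → L := fun v i => x ^ i * v * (x ^ i)⁻¹
  have hmem : ∀ v ∈ M, ∀ i, e v i ∈ M := fun v hv i =>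
    (Subgroup.mem_normalizer_iff.mp (pow_mem hxM i) v).mp hv
  let N : ℕ → L → L := fun i v => Nat.rec 1 (fun j acc => acc * e v j) i
  have hNmem : ∀ v ∈ M, ∀ i, N i v ∈ M := fun v hv i => by
    induction i with
    | zero => exact one_mem M
    | succ i ih => exact mul_mem ih (hmem v hv i)
  have hNmul : ∀ u ∈ M, ∀ v ∈ M, ∀ i, N i (u * v) = N i u * N i v := fun u hu v hv i => by
    induction i with
    | zero => exact (one_mul 1).symm
    | succ i ih =>
      show N i (u * v) * e (u * v) i = N i u * e u i * (N i v * e v i)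
      rw [ih, show e (u * v) i = e u i * e v i by simp only [e]; group]
      rw [mul_assoc, ← mul_assoc (N i v), (hcomm _ (hNmem v hv i) _ (hmem u hu i)).eq]
      group
  have hNx : ∀ v ∈ M, ∀ i, x * N i v * x⁻¹ * v = N i v * e v i := fun v hv i => by
    induction i with
    | zero =>
      show x * 1 * x⁻¹ * v = 1 * (x ^ 0 * v * (x ^ 0)⁻¹)
      simp
    | succ i ih =>
      show x * (N i v * e v i) * x⁻¹ * v = N i v * e v i * e v (i + 1)
      have h1 : x * (N i v * e v i) * x⁻¹ = (x * N i v * x⁻¹) * e v (i + 1) := by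
        simp only [e, pow_succ']; group
      have hxN : x * N i v * x⁻¹ ∈ M := (Subgroup.mem_normalizer_iff.mp hxM _).mp (hNmem v hv i)
      rw [h1, mul_assoc, (hcomm _ (hmem v hv (i + 1)) v hv).eq, ← mul_assoc, ih]
  have hNfix : ∀ v ∈ M, x * N r v * x⁻¹ = N r v := fun v hv => by
    have h1 := hNx v hv r
    rw [show e v r = v by simp only [e, r, pow_orderOf_eq_one]; simp] at h1
    exact mul_right_cancel h1
  have hNpow : ∀ v ∈ M, x * v * x⁻¹ = v → ∀ i, N i v = v ^ i := fun v hv h i => by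
    have hev : ∀ i, e v i = v := fun i => by
      have : Commute x v := mul_inv_eq_iff_eq_mul.mp h
      show x ^ i * v * (x ^ i)⁻¹ = v
      rw [(this.pow_left i).eq, mul_inv_cancel_right]
    induction i with
    | zero => exact (pow_zero v).symm
    | succ i ih => show N i v * e v i = _; rw [ih, hev, pow_succ]
  -- its kernel
  let K : Subgroup L :=
    { carrier := {v | v ∈ M ∧ N r v = 1}
      one_mem' := ⟨one_mem M, by
        have := hNmul 1 (one_mem M) 1 (one_mem M) r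
        rw [one_mul] at this
        exact left_eq_mul.mp this⟩
      mul_mem' := fun {a b} ha hb => ⟨mul_mem ha.1 hb.1, by rw [hNmul a ha.1 b hb.1, ha.2, hb.2, one_mul]⟩
      inv_mem' := fun {a} ha => ⟨inv_mem ha.1, by
        have h1 := hNmul a⁻¹ (inv_mem ha.1) a ha.1 r
        have h0 : N r 1 = 1 := by
          have := hNmul 1 (one_mem M) 1 (one_mem M) r
          rw [one_mul] at this
          exact left_eq_mul.mp this
        rw [inv_mul_cancel, h0, ha.2, mul_one] at h1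
        exact h1.symm⟩ }
  have hBK : B ≤ Subgroup.normalizer (K : Set L) := by
    intro b hb
    have key : ∀ b ∈ B, ∀ v ∈ K, b * v * b⁻¹ ∈ K := by
      intro b hb v hv
      have hbx : ∀ i, Commute b (x ^ i) := fun i =>
        (show Commute b x from hxB b hb).pow_right i
      have hN : ∀ i, N i (b * v * b⁻¹) = b * N i v * b⁻¹ := fun i => by
        induction i with
        | zero => show (1 : L) = b * 1 * b⁻¹; simp
        | succ i ih =>
          show N i (b * v * b⁻¹) * e (b * v * b⁻¹) i = b * (N i v * e v i) * b⁻¹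
          rw [ih]
          simp only [e]
          calc b * N i v * b⁻¹ * (x ^ i * (b * v * b⁻¹) * (x ^ i)⁻¹)
              = b * N i v * b⁻¹ * ((x ^ i * b) * v * (x ^ i * b)⁻¹) := by group
            _ = _ := by rw [← (hbx i).eq]; group
      exact ⟨(Subgroup.mem_normalizer_iff.mp (hBM hb) v).mp hv.1, by rw [hN, hv.2, mul_one, mul_inv_cancel]⟩
    rw [Subgroup.mem_normalizer_iff]
    refine fun v => ⟨key b hb v, fun h => ?_⟩
    simpa [mul_assoc] using key b⁻¹ (inv_mem hb) _ h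
  have hKbot : K = ⊥ := by
    by_contra hne
    have hKp : IsPGroup 2 ↥K := hM.to_le fun v hv => hv.1
    -- a fixed point of `B` on `K`
    obtain ⟨v, hvK, hv1, hvB⟩ : ∃ v ∈ K, v ≠ 1 ∧ v ∈ Subgroup.centralizer (B : Set L) := by
      letI : MulAction ↥B ↥K := MulAction.compHom ↥K
        (K.normalizerMonoidHom.comp (Subgroup.inclusion hBK))
      have hdvd : 2 ∣ Nat.card ↥K := by
        obtain ⟨k, hk⟩ := IsPGroup.iff_card.mp hKp
        rcases k with _ | k
        · exact absurd (Subgroup.card_eq_one.mp hk) hne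
        · exact hk ▸ dvd_pow_self 2 k.succ_ne_zero
      have h1 : (1 : ↥K) ∈ MulAction.fixedPoints ↥B ↥K := fun b =>
        map_one (K.normalizerMonoidHom (Subgroup.inclusion hBK b))
      obtain ⟨v, hv, hv1⟩ := hB.exists_fixed_point_of_prime_dvd_card_of_fixed_point ↥K hdvd h1
      refine ⟨v, v.2, fun h => hv1 (Subtype.ext h.symm), fun b hb => ?_⟩
      have := congrArg Subtype.val (hv ⟨b, hb⟩)
      exact mul_inv_eq_iff_eq_mul.mp this
    have h1 : x * v * x⁻¹ = v := hfix v ⟨hvK.1, hvB⟩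
    have h2 : v ^ r = 1 := (hNpow v hvK.1 h1 r).symm.trans hvK.2
    obtain ⟨k, hk⟩ := hKp ⟨v, hvK⟩
    exact hv1 (orderOf_eq_one_iff.mp (Nat.eq_one_of_dvd_coprimes
      ((Nat.coprime_two_right.mpr hx).pow_right k) (orderOf_dvd_of_pow_eq_one h2)
      (orderOf_dvd_of_pow_eq_one (by simpa using congrArg Subtype.val hk))))
  intro v hv
  have hxv : x * v * x⁻¹ ∈ M := (Subgroup.mem_normalizer_iff.mp hxM v).mp hv
  have hd : v⁻¹ * (x * v * x⁻¹) ∈ K := by
    refine ⟨mul_mem (inv_mem hv) hxv, ?_⟩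
    have hcomm' : ∀ i, N i (x * v * x⁻¹) = x * N i v * x⁻¹ := fun i => by
      induction i with
      | zero => show (1 : L) = x * 1 * x⁻¹; simp
      | succ i ih =>
        show N i (x * v * x⁻¹) * e (x * v * x⁻¹) i = x * (N i v * e v i) * x⁻¹
        rw [ih]
        simp only [e]
        have := (Commute.refl x).pow_left i
        calc x * N i v * x⁻¹ * (x ^ i * (x * v * x⁻¹) * (x ^ i)⁻¹)
            = x * N i v * x⁻¹ * ((x ^ i * x) * v * (x ^ i * x)⁻¹) := by group
          _ = _ := by rw [this.eq]; group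
    have h3 : N r v⁻¹ * N r v = 1 := by
      rw [← hNmul _ (inv_mem hv) v hv, inv_mul_cancel]
      exact (K.one_mem : (1 : L) ∈ K).2
    rw [hNmul _ (inv_mem hv) _ hxv, hcomm', hNfix v hv, h3]
  rw [hKbot, Subgroup.mem_bot, inv_mul_eq_one] at hd
  exact mul_inv_eq_iff_eq_mul.mp hd.symm |>.symm

/-- Odd elements commuting with a 2-group `B` that fix `M/[M,B]` fix the abelian 2-group `M`. -/
theorem fix_of_fix_quotient [Finite L] {M B : Subgroup L} (hM : IsPGroup 2 M)
    (hMab : M ≤ Subgroup.centralizer (M : Set L)) (hB : IsPGroup 2 B)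
    (hBM : B ≤ Subgroup.normalizer (M : Set L)) {x : L} (hxM : x ∈ Subgroup.normalizer (M : Set L))
    (hxB : x ∈ Subgroup.centralizer (B : Set L)) (hx : Odd (orderOf x))
    (hfix : ∀ v ∈ M, x * v * x⁻¹ * v⁻¹ ∈ ⁅M, B⁆) :
    x ∈ Subgroup.centralizer (M : Set L) := by
  classical
  have hcomm : ∀ u ∈ M, ∀ v ∈ M, Commute u v := fun u hu v hv => hMab hv u hu
  let δ : ↥M →* ↥M :=
    { toFun := fun v => ⟨x * v * x⁻¹ * (v : L)⁻¹,
        mul_mem ((Subgroup.mem_normalizer_iff.mp hxM v).mp v.2) (inv_mem v.2)⟩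
      map_one' := Subtype.ext (by simp)
      map_mul' := fun u v => Subtype.ext (by
        have hu : x * (u : L) * x⁻¹ ∈ M := (Subgroup.mem_normalizer_iff.mp hxM u).mp u.2
        have hv : x * (v : L) * x⁻¹ ∈ M := (Subgroup.mem_normalizer_iff.mp hxM v).mp v.2
        show x * ((u : L) * v) * x⁻¹ * ((u : L) * v)⁻¹ = (x * u * x⁻¹ * (u : L)⁻¹) * (x * v * x⁻¹ * (v : L)⁻¹)
        calc x * ((u : L) * v) * x⁻¹ * ((u : L) * v)⁻¹
            = (x * u * x⁻¹) * ((x * v * x⁻¹ * (v : L)⁻¹) * (u : L)⁻¹) := by group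
          _ = (x * u * x⁻¹) * ((u : L)⁻¹ * (x * v * x⁻¹ * (v : L)⁻¹)) := by
            rw [(hcomm _ (mul_mem hv (inv_mem v.2)) _ (inv_mem u.2)).eq]
          _ = _ := by group) }
  set K := δ.range.map M.subtype with hKdef
  have hKmem : ∀ {k : L}, k ∈ K ↔ ∃ v ∈ M, x * v * x⁻¹ * v⁻¹ = k := fun {k} =>
    ⟨by rintro ⟨_, ⟨v, rfl⟩, rfl⟩; exact ⟨v, v.2, rfl⟩,
     by rintro ⟨v, hv, rfl⟩; exact ⟨_, ⟨⟨v, hv⟩, rfl⟩, rfl⟩⟩
  have hKM : K ≤ M := Subgroup.map_subtype_le _
  -- `δ` has trivial kernel on its range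
  have hinj : ∀ k ∈ K, x * k * x⁻¹ = k → k = 1 := by
    intro k hk hkx
    obtain ⟨v, hv, rfl⟩ := hKmem.mp hk
    set d := x * v * x⁻¹ * v⁻¹ with hd
    have hdM : d ∈ M := hKM hk
    have hxd : Commute x d := mul_inv_eq_iff_eq_mul.mp hkx
    have hpow : ∀ j : ℕ, x ^ j * v * (x ^ j)⁻¹ = d ^ j * v := by
      intro j
      induction j with
      | zero => simp
      | succ j ihj =>
        calc x ^ (j + 1) * v * (x ^ (j + 1))⁻¹ = x * (x ^ j * v * (x ^ j)⁻¹) * x⁻¹ := by
              rw [pow_succ']; group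
          _ = (x * d ^ j) * v * x⁻¹ := by rw [ihj]; group
          _ = d ^ j * (d * v) := by rw [(hxd.pow_right j).eq, hd]; group
          _ = d ^ (j + 1) * v := by rw [← mul_assoc, ← pow_succ]
    have h := hpow (orderOf x)
    rw [pow_orderOf_eq_one, one_mul, inv_one, mul_one, right_eq_mul] at h
    obtain ⟨i, hi⟩ := hM ⟨d, hdM⟩
    exact orderOf_eq_one_iff.mp (Nat.eq_one_of_dvd_coprimes
      ((Nat.coprime_two_right.mpr hx).pow_right i) (orderOf_dvd_of_pow_eq_one h)
      (orderOf_dvd_of_pow_eq_one (by simpa using congrArg Subtype.val hi)))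
  -- hence `M = C K`
  have hsurj : ∀ k ∈ K, ∃ w ∈ K, x * w * x⁻¹ * w⁻¹ = k := by
    let δK : ↥K → ↥K := fun w => ⟨x * w * x⁻¹ * (w : L)⁻¹, hKmem.mpr ⟨w, hKM w.2, rfl⟩⟩
    have hi : Function.Injective δK := by
      intro u w huw
      have h0 : x * (u : L) * x⁻¹ * (u : L)⁻¹ = x * w * x⁻¹ * (w : L)⁻¹ := congrArg Subtype.val huw
      have hmul := congrArg Subtype.val (δ.map_mul ⟨u, hKM u.2⟩ (⟨w, hKM w.2⟩ : ↥M)⁻¹)
      rw [map_inv] at hmul
      change x * ((u : L) * (w : L)⁻¹) * x⁻¹ * ((u : L) * (w : L)⁻¹)⁻¹ =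
        x * u * x⁻¹ * (u : L)⁻¹ * (x * w * x⁻¹ * (w : L)⁻¹)⁻¹ at hmul
      rw [h0, mul_inv_cancel, mul_inv_eq_one] at hmul
      exact Subtype.ext (mul_inv_eq_one.mp (hinj _ (mul_mem u.2 (inv_mem w.2)) hmul))
    intro k hk
    obtain ⟨w, hw⟩ := (Finite.injective_iff_surjective.mp hi) ⟨k, hk⟩
    exact ⟨w, w.2, congrArg Subtype.val hw⟩
  have hBK : B ≤ Subgroup.normalizer (K : Set L) := by
    have key : ∀ b ∈ B, ∀ k ∈ K, b * k * b⁻¹ ∈ K := by
      intro b hb k hk
      obtain ⟨v, hv, rfl⟩ := hKmem.mp hk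
      refine hKmem.mpr ⟨b * v * b⁻¹, (Subgroup.mem_normalizer_iff.mp (hBM hb) v).mp hv, ?_⟩
      have h1 : b * x = x * b := hxB b hb
      calc x * (b * v * b⁻¹) * x⁻¹ * (b * v * b⁻¹)⁻¹ = (x * b) * v * (x * b)⁻¹ * b * v⁻¹ * b⁻¹ := by group
        _ = b * (x * v * x⁻¹ * v⁻¹) * b⁻¹ := by rw [← h1]; group
    intro b hb
    rw [Subgroup.mem_normalizer_iff]
    refine fun k => ⟨key b hb k, fun h => ?_⟩
    simpa [mul_assoc] using key b⁻¹ (inv_mem hb) _ h
  -- `[M, B] ∩ K = [K, B]`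
  have hle : K ≤ ⁅K, B⁆ := by
    intro k hk
    obtain ⟨w, hwK, rfl⟩ := hsurj k hk
    have hw2 : x * w * x⁻¹ * w⁻¹ ∈ ⁅M, B⁆ := hfix w (hKM hwK)
    -- apply `δ`
    have hmap : ∀ y ∈ ⁅M, B⁆, x * y * x⁻¹ * y⁻¹ ∈ ⁅K, B⁆ := by
      intro y hy
      rw [Subgroup.commutator_def] at hy
      have hyM : ∀ z ∈ Subgroup.closure {g | ∃ g₁ ∈ M, ∃ g₂ ∈ B, ⁅g₁, g₂⁆ = g}, z ∈ M := by
        intro z hz
        refine (Subgroup.closure_le M).mpr ?_ hz
        rintro _ ⟨g, hg, b, hb, rfl⟩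
        rw [commutatorElement_def, mul_assoc, mul_assoc, ← mul_assoc b]
        exact mul_mem hg ((Subgroup.mem_normalizer_iff.mp (hBM hb) _).mp (inv_mem hg))
      induction hy using Subgroup.closure_induction with
      | mem y hy =>
        obtain ⟨g, hg, b, hb, rfl⟩ := hy
        have hkg : x * g * x⁻¹ * g⁻¹ ∈ K := hKmem.mpr ⟨g, hg, rfl⟩
        have h1 : x * b * x⁻¹ = b := by rw [← hxB b hb, mul_inv_cancel_right]
        have hyM' : ⁅g, b⁆ ∈ M := hyM _ (Subgroup.subset_closure ⟨g, hg, b, hb, rfl⟩)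
        have hgb : b * g⁻¹ * b⁻¹ ∈ M := (Subgroup.mem_normalizer_iff.mp (hBM hb) _).mp (inv_mem hg)
        have h2 : x * ⁅g, b⁆ * x⁻¹ * ⁅g, b⁆⁻¹ = ⁅x * g * x⁻¹ * g⁻¹, b⁆ := by
          have e1 : x * ⁅g, b⁆ * x⁻¹ = ⁅x * g * x⁻¹, b⁆ := by
            conv_rhs => rw [← h1]
            simp only [commutatorElement_def]; group
          rw [e1]
          set d := x * g * x⁻¹ * g⁻¹ with hd
          have hdM : d ∈ M := hKM hkg
          have hdg : x * g * x⁻¹ = d * g := by rw [hd]; group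
          rw [hdg]
          have hbd : b * d⁻¹ * b⁻¹ ∈ M :=
            (Subgroup.mem_normalizer_iff.mp (hBM hb) _).mp (inv_mem hdM)
          simp only [commutatorElement_def]
          calc d * g * b * (d * g)⁻¹ * b⁻¹ * (g * b * g⁻¹ * b⁻¹)⁻¹
              = d * ((g * (b * g⁻¹ * b⁻¹)) * (b * d⁻¹ * b⁻¹)) * (g * (b * g⁻¹ * b⁻¹))⁻¹ := by group
            _ = d * ((b * d⁻¹ * b⁻¹) * (g * (b * g⁻¹ * b⁻¹))) * (g * (b * g⁻¹ * b⁻¹))⁻¹ := by
              rw [(hcomm _ (mul_mem hg hgb) _ hbd).eq]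
            _ = d * b * d⁻¹ * b⁻¹ := by group
        rw [h2]
        exact Subgroup.commutator_mem_commutator hkg hb
      | one => simp
      | mul y z hy hz ihy ihz =>
        have hy' := hyM y hy
        have hz' := hyM z hz
        have := congrArg Subtype.val (δ.map_mul ⟨y, hy'⟩ ⟨z, hz'⟩)
        change x * (y * z) * x⁻¹ * (y * z)⁻¹ = _ * _ at this
        rw [this]
        exact mul_mem ihy ihz
      | inv y hy ihy =>
        have := congrArg Subtype.val (δ.map_inv ⟨y, hyM y hy⟩)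
        change x * y⁻¹ * x⁻¹ * (y⁻¹)⁻¹ = _ at this
        rw [this]
        exact inv_mem ihy
    -- `δ` is onto `K`, so `δ (δ K) = K`
    obtain ⟨w', hw'K, hw'⟩ := hsurj w hwK
    rw [show x * w * x⁻¹ * w⁻¹ = x * (x * w' * x⁻¹ * w'⁻¹) * x⁻¹ * (x * w' * x⁻¹ * w'⁻¹)⁻¹ by rw [hw']]
    exact hmap _ (hfix w' (hKM hw'K))
  have hK := eq_bot_of_le_commutator (hM.to_le hKM) hB hBK hle
  intro v hv
  have : x * v * x⁻¹ * v⁻¹ ∈ K := hKmem.mpr ⟨v, hv, rfl⟩
  rw [hK, Subgroup.mem_bot, mul_inv_eq_one] at this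
  exact (mul_inv_eq_iff_eq_mul.mp this).symm

/-- The two bounds, from steps for all elementary abelian subgroups. -/
theorem bounds_of_good [Finite L] {M G : Subgroup L} (hM : Cfsg.IsElementaryAbelian 2 M)
    (hGM : G ≤ Subgroup.normalizer (M : Set L)) (hf : G ⊓ Subgroup.centralizer (M : Set L) = ⊥)
    (hgood : ∀ A : Subgroup ↥G, Cfsg.IsElementaryAbelian 2 A → A ≠ ⊥ → Good A)
    {A : Subgroup L} (hA : A ≤ G) (hAe : Cfsg.IsElementaryAbelian 2 A) :
    Nat.card A ^ 2 * Nat.card ↥(M ⊓ Subgroup.centralizer (A : Set L)) ≤ Nat.card M ∧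
      Nat.card A ^ 2 ≤ Nat.card ↥⁅M, A⁆ := by
  haveI := Fact.mk Nat.prime_two
  induction hn : Nat.card A using Nat.strong_induction_on generalizing A with
  | _ k ih =>
  subst hn
  have hMp : IsPGroup 2 M := fun v => ⟨1, Subtype.ext (by simpa using hM.2 v v.2)⟩
  have hMab : M ≤ Subgroup.centralizer (M : Set L) := Subgroup.le_centralizer_iff_isMulCommutative.2 hM.1
  rcases eq_or_ne A ⊥ with rfl | hA0
  · simp only [Subgroup.card_bot, one_pow, one_mul]
    exact ⟨Nat.card_le_card_of_injective _ (Subgroup.inclusion_injective inf_le_left), Nat.card_pos⟩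
  set A' := A.subgroupOf G
  have hA'e : Cfsg.IsElementaryAbelian 2 A' := by
    refine ⟨⟨⟨fun u v => Subtype.ext (Subtype.ext ?_)⟩⟩, fun u hu => Subtype.ext (hAe.2 _ hu)⟩
    exact (Subgroup.le_centralizer_iff_isMulCommutative.2 hAe.1 v.2) _ u.2
  have hA'0 : A' ≠ ⊥ := fun h => hA0 (by
    rw [← Subgroup.map_subgroupOf_eq_of_le hA]
    exact (congrArg (Subgroup.map G.subtype) h).trans (Subgroup.map_bot _))
  obtain ⟨B', hB'A, hB'ne, a, haA, hmv⟩ := hgood A' hA'e hA'0
  set B := B'.map G.subtype with hBdef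
  have hBA : B ≤ A := by
    rintro _ ⟨b, hb, rfl⟩
    exact hB'A hb
  have hBG : B ≤ G := hBA.trans hA
  have hBne : B ≠ A := fun h => hB'ne (by
    have := Subgroup.comap_map_eq_self_of_injective G.subtype_injective B'
    rw [← hBdef, h] at this
    exact this.symm)
  have hidx : B'.relIndex A' = B.relIndex A := by
    rw [← Subgroup.relIndex_map_map_of_injective _ _ G.subtype_injective, ← hBdef,
      show A'.map G.subtype = A from Subgroup.map_subgroupOf_eq_of_le hA]
  have hcardA : Nat.card ↥B * B.relIndex A = Nat.card ↥A := by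
    rw [← Subgroup.relIndex_bot_left, Subgroup.relIndex_mul_relIndex _ _ _ bot_le hBA,
      Subgroup.relIndex_bot_left]
  have hBe : Cfsg.IsElementaryAbelian 2 B :=
    ⟨⟨⟨fun u v => Subtype.ext ((Subgroup.le_centralizer_iff_isMulCommutative.2 hAe.1 (hBA v.2)) _ (hBA u.2))⟩⟩,
      fun u hu => hAe.2 u (hBA hu)⟩
  obtain ⟨ih1, ih2⟩ := ih (Nat.card B) (lt_of_le_of_ne (Nat.card_le_card_of_injective _
    (Subgroup.inclusion_injective hBA)) fun h => hBne (Subgroup.eq_of_le_of_card_ge hBA h.ge))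
    hBG hBe rfl
  have hBp : IsPGroup 2 B := fun v => ⟨1, Subtype.ext (by simpa using hBe.2 v v.2)⟩
  -- the group acting
  let C := ↥(Subgroup.centralizer (B' : Set ↥G))
  let ι : C →* L := G.subtype.comp (Subgroup.centralizer (B' : Set ↥G)).subtype
  have hιM : ∀ c, ι c ∈ Subgroup.normalizer (M : Set L) := fun c => hGM (c : ↥G).2
  have hιB : ∀ c, ι c ∈ Subgroup.centralizer (B : Set L) := by
    rintro c _ ⟨b, hb, rfl⟩
    exact congrArg Subtype.val (c.2 b hb)
  have hιinj : Function.Injective ι := G.subtype_injective.comp Subtype.val_injective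
  have hfaith : ∀ c : C, ι c ∈ Subgroup.centralizer (M : Set L) → c = 1 := fun c hc => hιinj (by
    rw [map_one]
    exact Subgroup.mem_bot.mp (hf ▸ (⟨(c : ↥G).2, hc⟩ : ι c ∈ G ⊓ Subgroup.centralizer (M : Set L))))
  constructor
  · set V := M ⊓ Subgroup.centralizer (B : Set L)
    have hιV : ∀ c, ι c ∈ Subgroup.normalizer (V : Set L) := by
      intro c
      have key : ∀ c, ∀ v ∈ V, ι c * v * (ι c)⁻¹ ∈ V := fun c v hv =>
        ⟨(Subgroup.mem_normalizer_iff.mp (hιM c) v).mp hv.1,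
          mul_mem (mul_mem (hιB c) hv.2) (Subgroup.inv_mem _ (hιB c))⟩
      rw [Subgroup.mem_normalizer_iff]
      refine fun v => ⟨key c v, fun h => ?_⟩
      have := key c⁻¹ _ h
      rw [map_inv] at this
      simpa [mul_assoc] using this
    let φ : C →* MulAut ↥V := V.normalizerMonoidHom.comp (ι.codRestrict _ hιV)
    have hb := hmv ↥V (hMp.to_le inf_le_left) φ fun c hc hodd => hfaith c
      (fix_of_fix_centralizer hMp hMab hBp (hBG.trans hGM) (hιM c) (hιB c)
        (by rwa [orderOf_injective ι hιinj]) fun v hv => by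
          have := congrArg (fun f : MulAut ↥V => ((f ⟨v, hv⟩ : ↥V) : L)) hc
          exact this)
    rw [hidx] at hb
    have hle : (M ⊓ Subgroup.centralizer (A : Set L)).subgroupOf V ≤ fixOf (φ a) := by
      intro v hv
      refine Subtype.ext ?_
      show ι a * (v : L) * (ι a)⁻¹ = v
      exact mul_inv_eq_iff_eq_mul.mpr (hv.2 (ι a) haA)
    have hsub : M ⊓ Subgroup.centralizer (A : Set L) ≤ V :=
      inf_le_inf_left _ (Subgroup.centralizer_le hBA)
    have h1 : Nat.card ↥(M ⊓ Subgroup.centralizer (A : Set L)) * B.relIndex A ^ 2 ≤ Nat.card ↥V := by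
      rw [← (fixOf (φ a)).card_mul_index]
      refine Nat.mul_le_mul ?_ hb
      rw [← Nat.card_congr (Subgroup.subgroupOfEquivOfLe hsub).toEquiv]
      exact Nat.card_le_card_of_injective _ (Subgroup.inclusion_injective hle)
    calc Nat.card A ^ 2 * Nat.card ↥(M ⊓ Subgroup.centralizer (A : Set L))
        = Nat.card B ^ 2 * (Nat.card ↥(M ⊓ Subgroup.centralizer (A : Set L)) * B.relIndex A ^ 2) := by
          rw [← hcardA]; ring
      _ ≤ Nat.card B ^ 2 * Nat.card ↥V := Nat.mul_le_mul_left _ h1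
      _ ≤ _ := ih1
  · set D := ⁅M, B⁆ with hD
    have hDM : D ≤ M := Subgroup.commutator_le.mpr fun g hg b hb => by
      rw [commutatorElement_def, mul_assoc, mul_assoc, ← mul_assoc b]
      exact mul_mem hg ((Subgroup.mem_normalizer_iff.mp (hGM (hBG hb)) _).mp (inv_mem hg))
    have hιD : ∀ c, ι c ∈ Subgroup.normalizer (D : Set L) := by
      intro c
      rw [Subgroup.mem_normalizer_iff_map_conj_eq, hD, Subgroup.map_commutator,
        Subgroup.mem_normalizer_iff_map_conj_eq.mp (hιM c),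
        Subgroup.mem_normalizer_iff_map_conj_eq.mp (Subgroup.centralizer_le_normalizer _ (hιB c))]
    set NN := Subgroup.normalizer (M : Set L) ⊓ Subgroup.normalizer (D : Set L)
    have hMNN : M ≤ NN := le_inf Subgroup.le_normalizer (hMab.trans
      ((Subgroup.centralizer_le hDM).trans (Subgroup.centralizer_le_normalizer _)))
    haveI : (D.subgroupOf NN).Normal := Subgroup.normal_subgroupOf_of_le_normalizer inf_le_right
    haveI : (M.subgroupOf NN).Normal := Subgroup.normal_subgroupOf_of_le_normalizer inf_le_left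
    let q : ↥NN →* ↥NN ⧸ D.subgroupOf NN := QuotientGroup.mk' _
    set W := (M.subgroupOf NN).map q with hW
    haveI : W.Normal := Subgroup.Normal.map inferInstance q (QuotientGroup.mk'_surjective _)
    let φ : C →* MulAut ↥W := (MulAut.conjNormal (H := W)).comp
      (q.comp (ι.codRestrict NN fun c => ⟨hιM c, hιD c⟩))
    have hq : ∀ y : ↥NN, q y = 1 ↔ (y : L) ∈ D := fun y => QuotientGroup.eq_one_iff y
    have hφ : ∀ (c : C) (v : L) (hv : v ∈ M), φ c ⟨q ⟨v, hMNN hv⟩, ⟨⟨v, hMNN hv⟩, hv, rfl⟩⟩ =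
        (⟨q ⟨v, hMNN hv⟩, ⟨⟨v, hMNN hv⟩, hv, rfl⟩⟩ : ↥W) ↔ ι c * v * (ι c)⁻¹ * v⁻¹ ∈ D := by
      intro c v hv
      rw [Subtype.ext_iff]
      show q _ * q ⟨v, hMNN hv⟩ * (q _)⁻¹ = q ⟨v, hMNN hv⟩ ↔ _
      rw [← mul_inv_eq_one]
      simp only [← map_inv q, ← map_mul, hq]
      rfl
    have hWp : IsPGroup 2 ↥W := (hMp.comap_of_injective NN.subtype NN.subtype_injective).map q
    have hb := hmv ↥W hWp φ fun c hc hodd => hfaith c
      (fix_of_fix_quotient hMp hMab hBp (hBG.trans hGM) (hιM c) (hιB c)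
        (by rwa [orderOf_injective ι hιinj]) fun v hv => (hφ c v hv).mp (by rw [hc]; rfl))
    rw [hidx] at hb
    -- the map `v ↦ [v, a]`
    set s := ι a with hs
    have hsA : s ∈ A := haA
    let g : ↥(M.subgroupOf NN) →* ↥NN ⧸ D.subgroupOf NN :=
      { toFun := fun v => q ⟨s * (v : L) * s⁻¹ * (v : L)⁻¹, hMNN (mul_mem
          ((Subgroup.mem_normalizer_iff.mp (hιM a) _).mp v.2) (inv_mem v.2))⟩
        map_one' := by rw [hq]; simp
        map_mul' := fun u v => by
          rw [← map_mul]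
          congr 1
          refine Subtype.ext ?_
          have hu : s * ((u : ↥NN) : L) * s⁻¹ ∈ M := (Subgroup.mem_normalizer_iff.mp (hιM a) _).mp u.2
          have hv : s * ((v : ↥NN) : L) * s⁻¹ ∈ M := (Subgroup.mem_normalizer_iff.mp (hιM a) _).mp v.2
          show s * (((u : ↥NN) : L) * (v : ↥NN)) * s⁻¹ * (((u : ↥NN) : L) * (v : ↥NN))⁻¹ =
            (s * (u : ↥NN) * s⁻¹ * ((u : ↥NN) : L)⁻¹) * (s * (v : ↥NN) * s⁻¹ * ((v : ↥NN) : L)⁻¹)
          calc s * (((u : ↥NN) : L) * (v : ↥NN)) * s⁻¹ * (((u : ↥NN) : L) * (v : ↥NN))⁻¹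
              = (s * (u : ↥NN) * s⁻¹) * ((s * (v : ↥NN) * s⁻¹ * ((v : ↥NN) : L)⁻¹) * ((u : ↥NN) : L)⁻¹) := by group
            _ = (s * (u : ↥NN) * s⁻¹) * (((u : ↥NN) : L)⁻¹ * (s * (v : ↥NN) * s⁻¹ * ((v : ↥NN) : L)⁻¹)) := by
              rw [show (s * ((v : ↥NN) : L) * s⁻¹ * ((v : ↥NN) : L)⁻¹) * ((u : ↥NN) : L)⁻¹ = _ from
                hMab (inv_mem (show ((u : ↥NN) : L) ∈ M from u.2)) _
                  (mul_mem hv (inv_mem (show ((v : ↥NN) : L) ∈ M from v.2)))]
            _ = _ := by group }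
    have hker : g.ker ≤ (fixOf (φ a)).comap (q.subgroupMap (M.subgroupOf NN)) := by
      intro v hv
      exact (hφ a _ v.2).mpr ((hq _).mp hv)
    have h1 : (fixOf (φ a)).index ≤ g.ker.index := by
      rw [← Subgroup.index_comap_of_surjective _ (q.subgroupMap_surjective (M.subgroupOf NN))]
      exact Nat.le_of_dvd (Nat.pos_of_ne_zero Subgroup.index_ne_zero_of_finite)
        (Subgroup.index_dvd_of_le hker)
    rw [Subgroup.index_ker] at h1
    set MA := (⁅M, A⁆.subgroupOf NN)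
    have hMAM : ⁅M, A⁆ ≤ M := Subgroup.commutator_le.mpr fun g hg b hb => by
      rw [commutatorElement_def, mul_assoc, mul_assoc, ← mul_assoc b]
      exact mul_mem hg ((Subgroup.mem_normalizer_iff.mp (hGM (hA hb)) _).mp (inv_mem hg))
    have hrange : g.range ≤ MA.map q := by
      rintro _ ⟨v, rfl⟩
      refine ⟨_, ?_, rfl⟩
      show s * ((v : ↥NN) : L) * s⁻¹ * ((v : ↥NN) : L)⁻¹ ∈ ⁅M, A⁆
      rw [show s * ((v : ↥NN) : L) * s⁻¹ * ((v : ↥NN) : L)⁻¹ = ⁅((v : ↥NN) : L), s⁆⁻¹ by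
        rw [commutatorElement_def]; group]
      exact inv_mem (Subgroup.commutator_mem_commutator v.2 hsA)
    have h2 : Nat.card ↥(MA.map q) * Nat.card ↥D = Nat.card ↥⁅M, A⁆ := by
      have hDA : D ≤ ⁅M, A⁆ := Subgroup.commutator_mono le_rfl hBA
      rw [← Subgroup.relIndex_ker, QuotientGroup.ker_mk',
        Subgroup.relIndex_subgroupOf (hMAM.trans hMNN), mul_comm, ← Subgroup.relIndex_bot_left,
        Subgroup.relIndex_mul_relIndex _ _ _ bot_le hDA, Subgroup.relIndex_bot_left]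
    calc Nat.card A ^ 2 = B.relIndex A ^ 2 * Nat.card B ^ 2 := by rw [← hcardA]; ring
      _ ≤ Nat.card ↥(MA.map q) * Nat.card ↥D := Nat.mul_le_mul ((hb.trans h1).trans
        (Nat.card_le_card_of_injective _ (Subgroup.inclusion_injective hrange))) ih2
      _ = _ := h2

end Cfsg.Agent.SThreeFree
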