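/-
Displacement steps in groups without `S₃` whose non-abelian composition factors are `Sz` or `PSL₂(3^odd)`.

Main results (namespace `Cfsg.Agent.SThreeFree`):
* `exists_good` : every nontrivial elementary abelian 2-subgroup of such a group with `O₂ = 1` has a step
-/
import Cfsg.Agent.Lib.SThreeFree.Module
import Cfsg.Agent.Lib.SThreeFree.Inner
import Cfsg.Agent.Lib.NatSL2.SzSection
import Cfsg.Agent.Lib.Components.GenFitting
import Cfsg.Agent.Lib.Cores.Fitting
import Cfsg.Agent.Lib.Signalizer.PAction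
import Cfsg.Agent.Lib.Involves.Basic

set_option autoImplicit false

namespace Cfsg.Agent.SThreeFree

universe u

/-- The dihedral group of order six is the symmetric group of degree three. -/
theorem dihedralThree : Nonempty (DihedralGroup 3 ≃* Equiv.Perm (Fin 3)) := by
  let f : DihedralGroup 3 →* Equiv.Perm (Fin 3) :=
    Involves.dihedralHom (x := Equiv.swap (0 : Fin 3) 1) (y := finRotate 3) (n := 3)
      (by decide +kernel) (by decide +kernel) (by decide +kernel)
  exact ⟨MulEquiv.ofBijective f ⟨by decide +kernel, by decide +kernel⟩⟩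

/-- Without `S₃` no element of order 3 is inverted. -/
theorem no_inverted_three {G : Type u} [Group G] [Finite G]
    (hb : ¬ Cfsg.Involves (Equiv.Perm (Fin 3)) G) {t y : G} (ht : t * t = 1) (hy : orderOf y = 3)
    (h : t * y * t⁻¹ = y⁻¹) : False := by
  haveI : Fact (Nat.Prime 3) := ⟨by norm_num⟩
  obtain ⟨e⟩ := dihedralThree
  obtain ⟨k, -, hk⟩ := (Nat.dvd_prime_pow Nat.prime_two).mp
    (show orderOf t ∣ 2 ^ 1 from orderOf_dvd_of_pow_eq_one (by rw [pow_one, pow_two, ht]))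
  exact hb (Involves.involves_of_mulEquiv e (Involves.involves_dihedral_of_inverting (by norm_num)
    ⟨k, hk⟩ ⟨1, by rw [hy, pow_one]⟩ (fun h1 => by rw [h1, orderOf_one] at hy; omega) h))

/-- A maximal subgroup between `T₀` and an abelian exponent 2 group has index two. -/
theorem exists_split {G : Type u} [Group G] [Finite G] {T₀ T : Subgroup G}
    (hT : ∀ x ∈ T, ∀ y ∈ T, x * y = y * x) (hT2 : ∀ x ∈ T, x ^ 2 = 1) (hle : T₀ ≤ T) (hne : T₀ ≠ T) :
    ∃ B : Subgroup G, T₀ ≤ B ∧ B ≤ T ∧ ∃ b ∈ T, b ∉ B ∧ ∀ t ∈ T, t ∈ B ∨ t * b ∈ B := by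
  obtain ⟨B, ⟨hT₀B, hBT, hBne⟩, hmax⟩ := Set.Finite.exists_maximal
    (Set.toFinite {B : Subgroup G | T₀ ≤ B ∧ B ≤ T ∧ B ≠ T}) ⟨T₀, le_rfl, hle, hne⟩
  obtain ⟨b, hbT, hbB⟩ : ∃ b ∈ T, b ∉ B := by
    by_contra h
    push Not at h
    exact hBne (le_antisymm hBT h)
  have hbb : b * b = 1 := by rw [← pow_two]; exact hT2 b hbT
  let B' : Subgroup G :=
    { carrier := {t | t ∈ T ∧ (t ∈ B ∨ t * b ∈ B)}
      one_mem' := ⟨one_mem T, Or.inl (one_mem B)⟩
      mul_mem' := by
        rintro x y ⟨hx, hx'⟩ ⟨hy, hy'⟩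
        refine ⟨mul_mem hx hy, ?_⟩
        rcases hx' with hx' | hx' <;> rcases hy' with hy' | hy'
        · exact Or.inl (mul_mem hx' hy')
        · exact Or.inr (by rw [mul_assoc]; exact mul_mem hx' hy')
        · refine Or.inr ?_
          rw [mul_assoc, hT y hy b hbT, ← mul_assoc]
          exact mul_mem hx' hy'
        · refine Or.inl ?_
          rw [show x * y = (x * b) * (y * b) by
            rw [hT y hy b hbT, mul_assoc, ← mul_assoc b, hbb, one_mul]]
          exact mul_mem hx' hy'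
      inv_mem' := by
        rintro x ⟨hx, hx'⟩
        rw [inv_eq_of_mul_eq_one_right (by rw [← pow_two]; exact hT2 x hx)]
        exact ⟨hx, hx'⟩ }
  have hBB' : B ≤ B' := fun x hx => ⟨hBT hx, Or.inl hx⟩
  have hB' : B' = T := by
    by_contra h
    have := hmax ⟨hT₀B.trans hBB', fun x hx => hx.1, h⟩ hBB'
    exact hbB (this ⟨hbT, Or.inr (by rw [hbb]; exact one_mem B)⟩)
  refine ⟨B, hT₀B, hBT, b, hbT, hbB, fun t ht => ?_⟩
  have : t ∈ B' := by rw [hB']; exact ht
  exact this.2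

variable {G : Type u} [Group G] [Finite G]

/-- An inverted odd element gives a step of index two. -/
theorem good_of_inverted (hb : ¬ Cfsg.Involves (Equiv.Perm (Fin 3)) G) {A : Subgroup G}
    (hA : Cfsg.IsElementaryAbelian 2 A) {a w : G} (ha : a ∈ A) (hw1 : w ≠ 1) (hw : Odd (orderOf w))
    (hinv : a * w * a⁻¹ = w⁻¹) (hall : ∀ c ∈ A, c * w * c⁻¹ = w ∨ c * w * c⁻¹ = w⁻¹) : Good A := by
  have haa : a * a = 1 := by rw [← pow_two]; exact hA.2 a ha
  have hainv : a⁻¹ = a := inv_eq_of_mul_eq_one_right haa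
  -- a power of prime order
  set r := (orderOf w).minFac
  have hne : orderOf w ≠ 1 := fun h => hw1 (orderOf_eq_one_iff.mp h)
  have hr : r.Prime := Nat.minFac_prime hne
  have hrodd : Odd r := hw.of_dvd_nat (Nat.minFac_dvd _)
  set j := orderOf w / r
  set w' := w ^ j
  have hw' : orderOf w' = r := orderOf_pow_orderOf_div (orderOf_pos w).ne' (Nat.minFac_dvd _)
  have hinv' : a * w' * a⁻¹ = w'⁻¹ := by rw [← conj_pow, hinv, inv_pow]
  have hr3 : r ≠ 3 := fun h => no_inverted_three hb haa (hw'.trans h) hinv'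
  have hall' : ∀ c ∈ A, c * w' * c⁻¹ = w' ∨ c * w' * c⁻¹ = w'⁻¹ := fun c hc =>
    (hall c hc).imp (fun h => by rw [← conj_pow, h]) (fun h => by rw [← conj_pow, h, inv_pow])
  have haC : ¬ Commute a w' := fun h => by
    have h1 : w'⁻¹ = w' := by rw [← hinv', h.eq, mul_inv_cancel_right]
    have h2 : orderOf w' ∣ 2 := orderOf_dvd_of_pow_eq_one (by
      rw [pow_two]; exact mul_eq_one_iff_eq_inv.mpr h1.symm)
    rw [hw'] at h2
    have := Nat.le_of_dvd two_pos h2
    have := hr.two_le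
    obtain ⟨i, hi⟩ := hrodd
    omega
  set B := A ⊓ Subgroup.centralizer ({w'} : Set G) with hB
  have haB : a ∉ B := fun h => haC (Subgroup.mem_centralizer_singleton_iff.mp h.2)
  have hsplit : ∀ c ∈ A, c ∈ B ∨ c * a ∈ B := by
    intro c hc
    rcases hall' c hc with h | h
    · exact Or.inl ⟨hc, Subgroup.mem_centralizer_singleton_iff.mpr (mul_inv_eq_iff_eq_mul.mp h)⟩
    · refine Or.inr ⟨mul_mem hc ha, Subgroup.mem_centralizer_singleton_iff.mpr ?_⟩
      refine mul_inv_eq_iff_eq_mul.mp ?_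
      calc c * a * w' * (c * a)⁻¹ = c * (a * w' * a⁻¹) * c⁻¹ := by group
        _ = (c * w' * c⁻¹)⁻¹ := by rw [hinv']; group
        _ = w' := by rw [h, inv_inv]
  have hidx : B.relIndex A = 2 := by
    show (B.subgroupOf A).index = 2
    refine Subgroup.index_eq_two_iff.mpr ⟨⟨a, ha⟩, fun c => ?_⟩
    rcases hsplit c c.2 with h | h
    · exact Or.inr ⟨h, fun h' => haB (by
        have := mul_mem (inv_mem h) (show (c : G) * a ∈ B from h')
        rwa [inv_mul_cancel_left] at this)⟩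
    · exact Or.inl ⟨h, fun h' => haB (by
        have := mul_mem (inv_mem (show (c : G) ∈ B from h')) h
        rwa [inv_mul_cancel_left] at this)⟩
  have hAc := Subgroup.le_centralizer_iff_isMulCommutative.2 hA.1
  have hwB : w' ∈ Subgroup.centralizer (B : Set G) := fun c hc =>
    Subgroup.mem_centralizer_singleton_iff.mp hc.2
  have haBc : a ∈ Subgroup.centralizer (B : Set G) := fun c hc => hAc ha c hc.1
  refine ⟨B, inf_le_left, fun h => haB (h.symm ▸ ha), ⟨a, haBc⟩, ha, ?_⟩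
  rw [hidx]
  let a' : ↥(Subgroup.centralizer (B : Set G)) := ⟨a, haBc⟩
  let x : ↥(Subgroup.centralizer (B : Set G)) := ⟨w', hwB⟩
  refine moves_of_conjugates (a := a') (h₁ := x) (h₂ := 1) (z := x) (r := r) (k := (r + 1) / 2) hr
    (fun h => by rw [h] at hrodd; exact absurd hrodd (by decide)) (by rw [← Subgroup.orderOf_coe]; exact hw') ?_ ?_
  · refine Subtype.ext ?_
    rw [Subgroup.coe_pow]
    show w' = (w' * a * w'⁻¹ * (1 * a * (1 : G)⁻¹)) ^ ((r + 1) / 2)
    rw [one_mul, inv_one, mul_one, show w' * a * w'⁻¹ * a = w' ^ 2 by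
      calc w' * a * w'⁻¹ * a = w' * (a * w' * a⁻¹)⁻¹ := by rw [hainv]; rw [_root_.mul_inv_rev, _root_.mul_inv_rev, hainv]; group
        _ = w' ^ 2 := by rw [hinv', inv_inv, pow_two],
      ← pow_mul, show 2 * ((r + 1) / 2) = r + 1 by obtain ⟨i, hi⟩ := hrodd; omega,
      pow_succ, ← hw', pow_orderOf_eq_one, one_mul]
  · intro d hd hdvd j hj
    have h5 : 5 ≤ r := by
      have := hr.two_le
      obtain ⟨i, hi⟩ := hrodd
      omega
    have hd3 : 3 ≤ d := by
      by_contra h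
      have : d = 1 ∨ d = 2 := by omega
      rcases this with rfl | rfl <;> · have := Nat.le_of_dvd (by norm_num) hdvd; omega
    rw [← pow_mul] at hj
    have := (Nat.pow_le_pow_iff_right one_lt_two).mp hj
    calc 2 ^ 2 ≤ 2 ^ j := Nat.pow_le_pow_right two_pos (by omega)
      _ = _ := rfl

/-- A step inside a subgroup is a step. -/
theorem good_restrict {C : Subgroup G} {A : Subgroup G} (hA : A ≤ C) (h : Good (A.subgroupOf C)) :
    Good A := by
  obtain ⟨B', hB'A, hB'ne, a, haA, hmv⟩ := h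
  set B := B'.map C.subtype with hBdef
  have hmap : (A.subgroupOf C).map C.subtype = A := Subgroup.map_subgroupOf_eq_of_le hA
  have hidx : B.relIndex A = B'.relIndex (A.subgroupOf C) := by
    conv_lhs => rw [← hmap]
    exact Subgroup.relIndex_map_map_of_injective _ _ C.subtype_injective
  have hmem : ∀ c : ↥(Subgroup.centralizer (B' : Set ↥C)), ((c : ↥C) : G) ∈ Subgroup.centralizer (B : Set G) := by
    rintro c _ ⟨b, hb, rfl⟩
    exact congrArg Subtype.val (c.2 b hb)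
  let ι : ↥(Subgroup.centralizer (B' : Set ↥C)) →* ↥(Subgroup.centralizer (B : Set G)) :=
    (C.subtype.comp (Subgroup.centralizer (B' : Set ↥C)).subtype).codRestrict _ hmem
  have hι : Function.Injective ι := fun x y h => Subtype.ext (Subtype.ext (congrArg Subtype.val h :))
  refine ⟨B, hmap ▸ Subgroup.map_mono hB'A, fun h => hB'ne
    (Subgroup.map_injective C.subtype_injective (h.trans hmap.symm)), ι a, haA, ?_⟩
  rw [hidx]
  intro V _ _ hV φ hker
  refine hmv V hV (φ.comp ι) fun x hx hodd => hι ?_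
  rw [map_one]
  exact hker (ι x) hx (by rwa [orderOf_injective ι hι])

/-- A Suzuki section normalised by an element gives a step. -/
theorem good_of_sz {F : Type} [Field F] [Fintype F] {m : ℕ} (hm : 1 ≤ m)
    (hF : Fintype.card F = 2 ^ (2 * m + 1)) {A B H : Subgroup G} (hA : Cfsg.IsElementaryAbelian 2 A)
    (hBA : B ≤ A) (hne : B ≠ A) {a : G} (ha : a ∈ A) (hHB : H ≤ Subgroup.centralizer (B : Set G))
    (haH : ∀ h ∈ H, a * h * a⁻¹ ∈ H) (π : ↥H →* Cfsg.Sz F m) (hπ : Function.Surjective π)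
    {s : Cfsg.Sz F m} (hs : orderOf s = 2)
    (heq : ∀ h : ↥H, π ⟨a * (h : G) * a⁻¹, haH h h.2⟩ = s * π h * s⁻¹)
    (hidx : B.relIndex A ≤ 2 ^ (2 * m + 1)) : Good A := by
  haveI : Fact (Nat.Prime 2) := ⟨Nat.prime_two⟩
  have haB : a ∈ Subgroup.centralizer (B : Set G) := fun c hc =>
    (Subgroup.le_centralizer_iff_isMulCommutative.2 hA.1 ha) c (hBA hc)
  have hainv : a⁻¹ = a := inv_eq_of_mul_eq_one_right (by rw [← pow_two]; exact hA.2 a ha)
  have hsinv : s⁻¹ = s := inv_eq_of_mul_eq_one_right (by rw [← pow_two, ← hs, pow_orderOf_eq_one])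
  obtain ⟨r, p, q, hr, hr2, hpq, hp, hq, hd⟩ := NatSL2.exists_sz_big hm hF
  obtain ⟨g1, hg1⟩ := isConj_iff.mp ((Suzuki.isConj_invol hm hF one_ne_zero hs).symm.trans
    (Suzuki.isConj_invol hm hF one_ne_zero hp))
  obtain ⟨g2, hg2⟩ := isConj_iff.mp ((Suzuki.isConj_invol hm hF one_ne_zero hs).symm.trans
    (Suzuki.isConj_invol hm hF one_ne_zero hq))
  obtain ⟨k1, hk1⟩ := hπ g1
  obtain ⟨k2, hk2⟩ := hπ g2
  let z0 : ↥H := k1 * ⟨a * ((k1⁻¹ * k2 : ↥H) : G) * a⁻¹, haH _ (k1⁻¹ * k2).2⟩ * k2⁻¹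
  have hπz : π z0 = p * q := by
    rw [map_mul, map_mul, heq, map_mul, map_inv, map_inv, hk1, hk2, ← hg1, ← hg2, hsinv]
    group
  have hdvd : r ∣ orderOf z0 := by
    rw [← hpq, ← hπz]; exact orderOf_map_dvd π z0
  set k := orderOf z0 / r
  let b1 : ↥(Subgroup.centralizer (B : Set G)) := ⟨k1, hHB k1.2⟩
  let b2 : ↥(Subgroup.centralizer (B : Set G)) := ⟨k2, hHB k2.2⟩
  let a' : ↥(Subgroup.centralizer (B : Set G)) := ⟨a, haB⟩
  let z : ↥(Subgroup.centralizer (B : Set G)) := ⟨(z0 ^ k : ↥H), hHB (z0 ^ k).2⟩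
  refine ⟨B, hBA, hne, a', ha, moves_of_conjugates (a := a') (h₁ := b1) (h₂ := b2) (z := z) (r := r)
    (k := k) hr hr2 ?_ ?_ ?_⟩
  · rw [← Subgroup.orderOf_coe]
    show orderOf (((z0 ^ k : ↥H)) : G) = r
    rw [Subgroup.orderOf_coe]
    exact orderOf_pow_orderOf_div (orderOf_pos z0).ne' hdvd
  · refine Subtype.ext ?_
    rw [Subgroup.coe_pow]
    show (((z0 ^ k : ↥H)) : G) = ((k1 : G) * a * (k1 : G)⁻¹ * ((k2 : G) * a * (k2 : G)⁻¹)) ^ k
    rw [Subgroup.coe_pow]
    congr 1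
    show (k1 : G) * (a * ((k1⁻¹ * k2 : ↥H) : G) * a⁻¹) * (k2 : G)⁻¹ = _
    rw [Subgroup.coe_mul, Subgroup.coe_inv, hainv]
    group
  · intro d hd0 hdvd' j hj
    have h4 := hd d hd0 hdvd'
    rw [← pow_mul] at hj
    have := (Nat.pow_le_pow_iff_right one_lt_two).mp hj
    refine (Nat.pow_le_pow_left hidx 2).trans ?_
    rw [← pow_mul]
    exact Nat.pow_le_pow_right two_pos (by omega)

end Cfsg.Agent.SThreeFree
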