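/-
The component step: diagonal subgroups and the two cases.

Main results (namespace `Cfsg.Agent.SThreeFree`):
* `exists_diag`  : a diagonal copy of a component centralised by a group of involutions permuting its conjugates
* `exists_good`  : every nontrivial elementary abelian 2-subgroup has a displacement step
-/
import Cfsg.Agent.Lib.SThreeFree.Reduce

set_option autoImplicit false

namespace Cfsg.Agent.SThreeFree

universe u

variable {X : Type u} [Group X] [Finite X]

/-- The conjugates of `L` under `T`. -/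
def orbitSup (L T : Subgroup X) : Subgroup X := ⨆ t ∈ T, L.map (MulAut.conj t).toMonoidHom

omit [Finite X] in
theorem conj_mem_orbitSup {L T T' : Subgroup X} {b : X} (h : ∀ t ∈ T', b * t ∈ T) {y : X}
    (hy : y ∈ orbitSup L T') : b * y * b⁻¹ ∈ orbitSup L T := by
  have hle : orbitSup L T' ≤ (orbitSup L T).comap (MulAut.conj b).toMonoidHom := by
    refine iSup₂_le fun t ht => ?_
    rintro _ ⟨l, hl, rfl⟩
    refine Subgroup.mem_comap.mpr (Subgroup.mem_iSup_of_mem (b * t) (Subgroup.mem_iSup_of_mem (h t ht) ?_))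
    exact ⟨l, hl, by simp [mul_assoc]⟩
  exact hle hy

/-- The diagonal. -/
theorem exists_diag {L : Subgroup X} (hL : Cfsg.IsComponent L) (P : Subgroup X)
    (hP : ∀ x ∈ P, ∀ y ∈ P, x * y = y * x) (hP2 : ∀ x ∈ P, x ^ 2 = 1) {T : Subgroup X} (hTP : T ≤ P)
    (hT : T ⊓ Subgroup.normalizer (L : Set X) ≤ Subgroup.centralizer (L : Set X)) :
    ∃ δ : ↥L →* X, (∀ x, δ x ∈ orbitSup L T) ∧ (∀ t ∈ T, ∀ x, t * δ x * t⁻¹ = δ x) ∧
      (∀ c ∈ P ⊓ Subgroup.normalizer (L : Set X), ∀ x : ↥L, ∀ (h : c * (x : X) * c⁻¹ ∈ L),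
        c * δ x * c⁻¹ = δ ⟨c * (x : X) * c⁻¹, h⟩) ∧
      ∀ x y : ↥L, δ x * (y : X) * (δ x)⁻¹ = x * y * (x : X)⁻¹ := by
  induction hn : Nat.card T using Nat.strong_induction_on generalizing T with
  | _ k ih =>
  subst hn
  by_cases hTN : T ≤ Subgroup.normalizer (L : Set X)
  · refine ⟨L.subtype, fun x => ?_, fun t ht x => ?_, fun c _ x h => rfl, fun x y => rfl⟩
    · exact Subgroup.mem_iSup_of_mem 1 (Subgroup.mem_iSup_of_mem (one_mem T) ⟨x, x.2, by simp⟩)
    · have h1 := hT ⟨ht, hTN ht⟩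
      exact mul_inv_eq_iff_eq_mul.mpr (h1 _ x.2).symm
  have hT2 : ∀ t ∈ T, t ^ 2 = 1 := fun t ht => hP2 t (hTP ht)
  obtain ⟨T', hT0, hT'T, b, hbT, hbT', hsp⟩ := exists_split (T₀ := T ⊓ Subgroup.normalizer (L : Set X))
    (T := T) (fun x hx y hy => hP x (hTP hx) y (hTP hy)) hT2 inf_le_left
    (fun h => hTN (h ▸ inf_le_right))
  have hbb : b * b = 1 := by rw [← pow_two]; exact hT2 b hbT
  have hbinv : b⁻¹ = b := inv_eq_of_mul_eq_one_right hbb
  obtain ⟨δ', hsup, hfix, heq, hconj⟩ := ih (Nat.card T')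
    (lt_of_le_of_ne (Nat.card_le_card_of_injective _ (Subgroup.inclusion_injective hT'T))
      fun h => hbT' (Subgroup.eq_of_le_of_card_ge hT'T h.ge ▸ hbT))
    (hT'T.trans hTP) ((inf_le_inf_right _ hT'T).trans hT) rfl
  -- conjugates with labels in the two cosets commute
  have hdist : ∀ t₁ ∈ T', ∀ t₂ ∈ T', ∀ x ∈ L.map (MulAut.conj t₁).toMonoidHom,
      ∀ y ∈ L.map (MulAut.conj (b * t₂)).toMonoidHom, x * y = y * x := by
    intro t₁ h1 t₂ h2 x hx y hy
    have hne : L.map (MulAut.conj t₁).toMonoidHom ≠ L.map (MulAut.conj (b * t₂)).toMonoidHom := by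
      intro h
      have hN : t₁⁻¹ * (b * t₂) ∈ Subgroup.normalizer (L : Set X) := by
        rw [Subgroup.mem_normalizer_iff_map_conj_eq]
        calc L.map (MulAut.conj (t₁⁻¹ * (b * t₂))).toMonoidHom
            = (L.map (MulAut.conj (b * t₂)).toMonoidHom).map (MulAut.conj t₁⁻¹).toMonoidHom := by
              rw [Subgroup.map_map]; congr 1; ext; simp [mul_assoc]
          _ = L := by
              rw [← h, Subgroup.map_map]
              conv_rhs => rw [← Subgroup.map_id L]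
              congr 1; ext; simp [mul_assoc]
      have h3 : t₁⁻¹ * (b * t₂) ∈ T' := hT0 ⟨mul_mem (Subgroup.inv_mem _ (hT'T h1)) (mul_mem hbT (hT'T h2)), hN⟩
      refine hbT' ?_
      have := mul_mem (mul_mem h1 h3) (inv_mem h2)
      rwa [mul_inv_cancel_left, mul_inv_cancel_right] at this
    have := Subgroup.commutator_eq_bot_iff_le_centralizer.mp
      (Components.IsComponent.commutator_eq_bot (Components.IsComponent.conj hL t₁)
        (Components.IsComponent.conj hL (b * t₂)) hne) hx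
    exact (this y hy).symm
  have hcomm : ∀ u v : ↥L, Commute (δ' u) (b * δ' v * b⁻¹) := by
    intro u v
    have h1 : orbitSup L T' ≤ Subgroup.centralizer ({b * δ' v * b⁻¹} : Set X) := by
      refine iSup₂_le fun t₁ h1 x hx => Subgroup.mem_centralizer_singleton_iff.mpr ?_
      have h2 : orbitSup L T' ≤ (Subgroup.centralizer ({x} : Set X)).comap (MulAut.conj b).toMonoidHom := by
        refine iSup₂_le fun t₂ h2 => ?_
        rintro _ ⟨l, hl, rfl⟩
        refine Subgroup.mem_comap.mpr (Subgroup.mem_centralizer_singleton_iff.mpr ?_)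
        exact (hdist t₁ h1 t₂ h2 x hx _ ⟨l, hl, by simp [mul_assoc]⟩).symm
      exact (Subgroup.mem_centralizer_singleton_iff.mp (h2 (hsup v))).symm
    exact Subgroup.mem_centralizer_singleton_iff.mp (h1 (hsup u))
  let δ : ↥L →* X :=
    { toFun := fun x => δ' x * (b * δ' x * b⁻¹)
      map_one' := by simp
      map_mul' := fun x y => by
        calc δ' (x * y) * (b * δ' (x * y) * b⁻¹)
            = δ' x * (δ' y * (b * δ' x * b⁻¹)) * (b * δ' y * b⁻¹) := by rw [map_mul]; group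
          _ = δ' x * ((b * δ' x * b⁻¹) * δ' y) * (b * δ' y * b⁻¹) := by rw [(hcomm y x).eq]
          _ = _ := by group }
  refine ⟨δ, fun x => mul_mem ?_ ?_, fun t ht x => ?_, fun c hc x h => ?_, fun x y => ?_⟩
  · refine (iSup₂_le fun t ht => ?_ : orbitSup L T' ≤ orbitSup L T) (hsup x)
    exact le_iSup₂ (f := fun t (_ : t ∈ T) => L.map (MulAut.conj t).toMonoidHom) t (hT'T ht)
  · exact conj_mem_orbitSup (fun t ht => mul_mem hbT (hT'T ht)) (hsup x)
  · have key : ∀ t ∈ T', t * δ x * t⁻¹ = δ x := fun t ht => by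
      show t * (δ' x * (b * δ' x * b⁻¹)) * t⁻¹ = δ' x * (b * δ' x * b⁻¹)
      have htb : t * b = b * t := hP t (hTP (hT'T ht)) b (hTP hbT)
      calc t * (δ' x * (b * δ' x * b⁻¹)) * t⁻¹
          = (t * δ' x * t⁻¹) * ((t * b) * δ' x * (t * b)⁻¹) := by group
        _ = (t * δ' x * t⁻¹) * (b * (t * δ' x * t⁻¹) * b⁻¹) := by rw [htb]; group
        _ = _ := by rw [hfix t ht]
    have hb' : b * δ x * b⁻¹ = δ x := by
      show b * (δ' x * (b * δ' x * b⁻¹)) * b⁻¹ = δ' x * (b * δ' x * b⁻¹)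
      calc b * (δ' x * (b * δ' x * b⁻¹)) * b⁻¹ = (b * δ' x * b⁻¹) * ((b * b) * δ' x * (b * b)⁻¹) := by group
        _ = (b * δ' x * b⁻¹) * δ' x := by rw [hbb]; group
        _ = _ := (hcomm x x).eq.symm
    rcases hsp t ht with h | h
    · exact key t h
    · calc t * δ x * t⁻¹ = (t * b) * (b⁻¹ * δ x * b) * (t * b)⁻¹ := by group
        _ = (t * b) * δ x * (t * b)⁻¹ := by
          conv_lhs => rw [hbinv]
          conv_rhs => rw [← hb', hbinv]
        _ = δ x := key _ h
  · show c * (δ' x * (b * δ' x * b⁻¹)) * c⁻¹ = δ' _ * (b * δ' _ * b⁻¹)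
    have hcb : c * b = b * c := hP c hc.1 b (hTP hbT)
    rw [← heq c hc x h]
    calc c * (δ' x * (b * δ' x * b⁻¹)) * c⁻¹
        = (c * δ' x * c⁻¹) * ((c * b) * δ' x * (c * b)⁻¹) := by group
      _ = _ := by rw [hcb]; group
  · show δ' x * (b * δ' x * b⁻¹) * (y : X) * (δ' x * (b * δ' x * b⁻¹))⁻¹ = _
    have h2 : Commute (b * δ' x * b⁻¹) (y : X) := by
      have hle : orbitSup L T' ≤ (Subgroup.centralizer ({(y : X)} : Set X)).comap (MulAut.conj b).toMonoidHom := by
        refine iSup₂_le fun t₂ h2 => ?_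
        rintro _ ⟨l, hl, rfl⟩
        refine Subgroup.mem_comap.mpr (Subgroup.mem_centralizer_singleton_iff.mpr ?_)
        exact (hdist 1 (one_mem T') t₂ h2 _ ⟨y, y.2, by simp⟩ _ ⟨l, hl, by simp [mul_assoc]⟩).symm
      exact Subgroup.mem_centralizer_singleton_iff.mp (hle (hsup x))
    calc δ' x * (b * δ' x * b⁻¹) * (y : X) * (δ' x * (b * δ' x * b⁻¹))⁻¹
        = δ' x * ((b * δ' x * b⁻¹) * (y : X) * (b * δ' x * b⁻¹)⁻¹) * (δ' x)⁻¹ := by group
      _ = δ' x * (y : X) * (δ' x)⁻¹ := by rw [h2.eq, mul_inv_cancel_right]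
      _ = _ := hconj x y

omit [Finite X] in
/-- The two kinds of steps in the quotient. -/
def Step (P : Subgroup X) : Prop :=
  (∃ B : Subgroup X, ∃ a ∈ P, ∃ y : X, B ≤ P ∧ y ≠ 1 ∧ Odd (orderOf y) ∧ a * y * a⁻¹ = y⁻¹ ∧
    (∀ b ∈ B, b * y = y * b) ∧ ∀ b ∈ P, b ∈ B ∨ b * a ∈ B) ∨
  ∃ (F : Type) (_ : Field F) (_ : Fintype F) (m : ℕ), 1 ≤ m ∧ Fintype.card F = 2 ^ (2 * m + 1) ∧
    ∃ B : Subgroup X, B ≤ P ∧ B ≠ P ∧ B.relIndex P ≤ 2 ^ (2 * m + 1) ∧ ∃ a ∈ P, ∃ D : Subgroup X,
      D ≤ Subgroup.centralizer (B : Set X) ∧ ∃ (hD : ∀ d ∈ D, a * d * a⁻¹ ∈ D)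
        (π : ↥D →* Cfsg.Sz F m) (s : Cfsg.Sz F m), Function.Surjective π ∧ orderOf s = 2 ∧
          ∀ d : ↥D, π ⟨a * (d : X) * a⁻¹, hD d d.2⟩ = s * π d * s⁻¹

/-- A step from a moved component. -/
theorem step_of_component (hb : ¬ Cfsg.Involves (Equiv.Perm (Fin 3)) X) {L : Subgroup X}
    (hL : Cfsg.IsComponent L) (hsimple : IsSimpleGroup ↥L) (hnc : ¬ IsMulCommutative ↥L)
    (hK : Cfsg.IsSuzukiOrPSL2OddPowerThree ↥L) (hZ : Subgroup.center ↥L = ⊥) {P : Subgroup X}
    (hP : Cfsg.IsElementaryAbelian 2 P) (hPL : ¬ P ≤ Subgroup.centralizer (L : Set X)) : Step P := by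
  classical
  haveI : Fact (Nat.Prime 2) := ⟨Nat.prime_two⟩
  have hPc : ∀ x ∈ P, ∀ y ∈ P, x * y = y * x := fun x hx y hy =>
    (Subgroup.le_centralizer_iff_isMulCommutative.2 hP.1 hy) x hx
  set N := Subgroup.normalizer (L : Set X)
  set P0 := P ⊓ N
  set Q := P ⊓ Subgroup.centralizer (L : Set X)
  have hQP0 : Q ≤ P0 := inf_le_inf_left _ (Subgroup.centralizer_le_normalizer _)
  by_cases hPQ : P0 ≤ Q
  · -- the component is moved
    have hne : P0 ≠ P := fun h => hPL ((h.ge.trans hPQ).trans inf_le_right)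
    obtain ⟨B, hP0B, hBP, a, ha, haB, hsp⟩ := exists_split hPc hP.2 inf_le_left hne
    obtain ⟨δ, hsup, hfix, heq, hconj⟩ := exists_diag hL P hPc hP.2 hBP
      ((inf_le_inf_right N hBP).trans (hPQ.trans inf_le_right))
    -- an odd element of the component
    obtain ⟨x, hx1, hxo⟩ : ∃ x : ↥L, x ≠ 1 ∧ Odd (orderOf x) := by
      by_contra hall
      push Not at hall
      have h2 : IsPGroup 2 ↥L := IsPGroup.iff_orderOf.mpr fun g => by
        obtain ⟨k, j, hj, hk⟩ := Nat.exists_eq_two_pow_mul_odd (orderOf_pos g).ne'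
        have h1 : g ^ 2 ^ k = 1 := by
          by_contra hne'
          refine hall _ hne' ?_
          rw [orderOf_pow_of_dvd (pow_ne_zero _ two_ne_zero) (hk ▸ Dvd.intro j rfl), hk,
            Nat.mul_div_cancel_left _ (pow_pos two_pos k)]
          exact hj
        exact (Nat.dvd_prime_pow Nat.prime_two).mp (orderOf_dvd_of_pow_eq_one h1) |>.imp fun _ h => h.2
      haveI : Nontrivial ↥L := hsimple.toNontrivial
      exact (h2.bot_lt_center.ne) hZ.symm
    have haa : a * a = 1 := by rw [← pow_two]; exact hP.2 a ha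
    have hainv : a⁻¹ = a := inv_eq_of_mul_eq_one_right haa
    set T := B ⊔ Subgroup.zpowers a
    have hTP : T ≤ P := sup_le hBP (Subgroup.zpowers_le.mpr ha)
    set u := δ x
    -- `u` and its conjugate lie in commuting orbits
    have hdist : ∀ t₁ ∈ B, ∀ t₂ ∈ B, ∀ v ∈ L.map (MulAut.conj t₁).toMonoidHom,
        ∀ w ∈ L.map (MulAut.conj (a * t₂)).toMonoidHom, v * w = w * v := by
      intro t₁ h1 t₂ h2 v hv w hw
      have hne' : L.map (MulAut.conj t₁).toMonoidHom ≠ L.map (MulAut.conj (a * t₂)).toMonoidHom := by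
        intro h
        have hN : t₁⁻¹ * (a * t₂) ∈ N := by
          show t₁⁻¹ * (a * t₂) ∈ Subgroup.normalizer (L : Set X)
          rw [Subgroup.mem_normalizer_iff_map_conj_eq]
          calc L.map (MulAut.conj (t₁⁻¹ * (a * t₂))).toMonoidHom
              = (L.map (MulAut.conj (a * t₂)).toMonoidHom).map (MulAut.conj t₁⁻¹).toMonoidHom := by
                rw [Subgroup.map_map]; congr 1; ext; simp [mul_assoc]
            _ = L := by
                rw [← h, Subgroup.map_map]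
                conv_rhs => rw [← Subgroup.map_id L]
                congr 1; ext; simp [mul_assoc]
        have h3 : t₁⁻¹ * (a * t₂) ∈ B :=
          hP0B ⟨mul_mem (Subgroup.inv_mem _ (hBP h1)) (mul_mem ha (hBP h2)), hN⟩
        refine haB ?_
        have := mul_mem (mul_mem h1 h3) (inv_mem h2)
        rwa [mul_inv_cancel_left, mul_inv_cancel_right] at this
      have := Subgroup.commutator_eq_bot_iff_le_centralizer.mp
        (Components.IsComponent.commutator_eq_bot (Components.IsComponent.conj hL t₁)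
          (Components.IsComponent.conj hL (a * t₂)) hne') hv
      exact (this w hw).symm
    have hcz : ∀ v ∈ orbitSup L B, Commute (a * u * a⁻¹) v := by
      intro v hv
      have h1 : orbitSup L B ≤ Subgroup.centralizer ({a * u * a⁻¹} : Set X) := by
        refine iSup₂_le fun t₁ h1 w hw => Subgroup.mem_centralizer_singleton_iff.mpr ?_
        have h2 : orbitSup L B ≤ (Subgroup.centralizer ({w} : Set X)).comap (MulAut.conj a).toMonoidHom := by
          refine iSup₂_le fun t₂ h2 => ?_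
          rintro _ ⟨l, hl, rfl⟩
          refine Subgroup.mem_comap.mpr (Subgroup.mem_centralizer_singleton_iff.mpr ?_)
          exact (hdist t₁ h1 t₂ h2 w hw _ ⟨l, hl, by simp [mul_assoc]⟩).symm
        exact (Subgroup.mem_centralizer_singleton_iff.mp (h2 (hsup x))).symm
      exact (Subgroup.mem_centralizer_singleton_iff.mp (h1 hv)).symm
    set y := u * (a * u * a⁻¹)⁻¹ with hy
    have hcu : Commute u (a * u * a⁻¹) := (hcz u (hsup x)).symm
    have huo : Odd (orderOf u) := hxo.of_dvd_nat (orderOf_map_dvd δ x)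
    refine Or.inl ⟨B, a, ha, y, hBP, fun h1 => ?_, ?_, ?_, fun c hc => ?_, hsp⟩
    · rw [hy, mul_inv_eq_one] at h1
      refine hx1 (Subgroup.mem_bot.mp (hZ ▸ Subgroup.mem_center_iff.mpr fun g => Subtype.ext ?_))
      have h2 := hconj x g
      have h3 : Commute u (g : X) := by
        rw [show u = a * u * a⁻¹ from h1]
        exact hcz _ (Subgroup.mem_iSup_of_mem 1 (Subgroup.mem_iSup_of_mem (one_mem B) ⟨g, g.2, by simp⟩))
      change u * (g : X) * u⁻¹ = _ at h2
      rw [h3.eq, mul_inv_cancel_right] at h2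
      show (g : X) * x = x * g
      exact (eq_mul_inv_iff_mul_eq.mp h2)
    · have h3 : orderOf y ∣ orderOf u := orderOf_dvd_of_pow_eq_one (by
        rw [hy, hcu.inv_right.mul_pow, pow_orderOf_eq_one, one_mul, inv_pow, conj_pow, pow_orderOf_eq_one,
          mul_one, mul_inv_cancel, inv_one])
      exact huo.of_dvd_nat h3
    · calc a * y * a⁻¹ = (a * u * a⁻¹) * ((a * a) * u * (a * a)⁻¹)⁻¹ := by rw [hy]; group
        _ = (a * u * a⁻¹) * u⁻¹ := by rw [haa]; group
        _ = y⁻¹ := by rw [hy]; group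
    · have h1 := hfix c hc x
      have hca : c * a = a * c := hPc c (hBP hc) a ha
      refine mul_inv_eq_iff_eq_mul.mp ?_
      calc c * y * c⁻¹ = (c * u * c⁻¹) * ((c * a) * u * (c * a)⁻¹)⁻¹ := by rw [hy]; group
        _ = (c * u * c⁻¹) * (a * (c * u * c⁻¹) * a⁻¹)⁻¹ := by rw [hca]; group
        _ = y := by rw [h1]
  -- `P₀` induces a nontrivial group of automorphisms
  let ψ : ↥P0 →* MulAut ↥L := (L.normalizerMonoidHom).comp (Subgroup.inclusion (inf_le_right : P0 ≤ N))
  have hψ : ∀ (c : ↥P0) (z : ↥L), ((ψ c z : ↥L) : X) = (c : X) * z * (c : X)⁻¹ := fun c z => rfl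
  set E := ψ.range
  have hE : Cfsg.IsElementaryAbelian 2 E := by
    refine ⟨⟨⟨?_⟩⟩, ?_⟩
    · rintro ⟨_, c, rfl⟩ ⟨_, d, rfl⟩
      refine Subtype.ext ?_
      show ψ c * ψ d = ψ d * ψ c
      rw [← map_mul, ← map_mul, show c * d = d * c from Subtype.ext (hPc c c.2.1 d d.2.1)]
    · rintro _ ⟨c, rfl⟩
      rw [← map_pow, show c ^ 2 = 1 from Subtype.ext (hP.2 c c.2.1), map_one]
  have hker : ∀ c : ↥P0, ψ c = 1 ↔ (c : X) ∈ Q := by
    intro c
    constructor
    · intro h
      refine ⟨c.2.1, fun z hz => ?_⟩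
      have := congrArg (fun f : MulAut ↥L => ((f ⟨z, hz⟩ : ↥L) : X)) h
      exact (mul_inv_eq_iff_eq_mul.mp this).symm
    · intro h
      refine MulEquiv.ext fun z => Subtype.ext ?_
      rw [hψ, ← h.2 z z.2]
      show (z : X) * c * (c : X)⁻¹ = z
      rw [mul_inv_cancel_right]
  have hE1 : E ≠ ⊥ := fun h => hPQ fun c hc => (hker ⟨c, hc⟩).mp (Subgroup.mem_bot.mp (h ▸ ⟨_, rfl⟩))
  -- a complement
  obtain ⟨T, ⟨hQT, hTP, hTQ⟩, hTmax⟩ := Set.Finite.exists_maximal
    (Set.toFinite {T : Subgroup X | Q ≤ T ∧ T ≤ P ∧ T ⊓ P0 ≤ Q}) ⟨Q, le_rfl, inf_le_left, inf_le_left⟩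
  have hTN : T ⊓ N ≤ Subgroup.centralizer (L : Set X) := fun t ht => (hTQ ⟨ht.1, hTP ht.1, ht.2⟩).2
  obtain ⟨δ, hsup, hfix, heq, hconj⟩ := exists_diag hL P hPc hP.2 hTP hTN
  have hδ : Function.Injective δ := by
    rw [injective_iff_map_eq_one]
    intro x hx
    refine Subgroup.mem_bot.mp (hZ ▸ Subgroup.mem_center_iff.mpr fun g => Subtype.ext ?_)
    have h2 := hconj x g
    rw [hx] at h2
    simp only [one_mul, inv_one, mul_one] at h2
    show (g : X) * x = x * g
    exact eq_mul_inv_iff_mul_eq.mp h2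
  -- `P = T P₀`
  have hcover : ∀ c ∈ P, ∃ t ∈ T, ∃ d ∈ P0, c = t * d := by
    intro c hc
    by_contra hno
    push Not at hno
    have hcc : c * c = 1 := by rw [← pow_two]; exact hP.2 c hc
    let T₁ : Subgroup X :=
      { carrier := {g | g ∈ P ∧ (g ∈ T ∨ g * c ∈ T)}
        one_mem' := ⟨one_mem P, Or.inl (one_mem T)⟩
        mul_mem' := by
          rintro x y ⟨hx, hx'⟩ ⟨hy, hy'⟩
          refine ⟨mul_mem hx hy, ?_⟩
          rcases hx' with hx' | hx' <;> rcases hy' with hy' | hy'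
          · exact Or.inl (mul_mem hx' hy')
          · exact Or.inr (by rw [mul_assoc]; exact mul_mem hx' hy')
          · refine Or.inr ?_
            rw [mul_assoc, hPc y hy c hc, ← mul_assoc]
            exact mul_mem hx' hy'
          · refine Or.inl ?_
            rw [show x * y = (x * c) * (y * c) by
              rw [hPc y hy c hc, mul_assoc, ← mul_assoc c, hcc, one_mul]]
            exact mul_mem hx' hy'
        inv_mem' := by
          rintro x ⟨hx, hx'⟩
          rw [inv_eq_of_mul_eq_one_right (by rw [← pow_two]; exact hP.2 x hx)]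
          exact ⟨hx, hx'⟩ }
    have hle : T ≤ T₁ := fun g hg => ⟨hTP hg, Or.inl hg⟩
    have h1 : T₁ ⊓ P0 ≤ Q := by
      rintro g ⟨⟨hg, hg'⟩, hg0⟩
      rcases hg' with hg' | hg'
      · exact hTQ ⟨hg', hg0⟩
      · exfalso
        refine hno (g * c) hg' g hg0 ?_
        calc c = (g * g) * c := by rw [← pow_two, hP.2 g hg, one_mul]
          _ = g * c * g := by rw [mul_assoc, hPc g hg (g * c) (mul_mem hg hc)]
    exact hno c (hTmax ⟨hQT.trans hle, fun g hg => hg.1, h1⟩ hle ⟨hc, Or.inr (by rw [hcc]; exact one_mem T)⟩)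
      1 (one_mem P0) (mul_one c).symm
  have hdcases := hK
  rcases hdcases with ⟨F, _, _, m, hm, hF, ⟨e⟩⟩ | ⟨F, _, _, n, hF, ⟨e⟩⟩
  · -- Suzuki
    let e' : ↥L ≃* Cfsg.Sz F m := e.trans (Suzuki.lieEquiv hm hF).symm
    obtain ⟨hcard, hin⟩ := sz_inner hm hF e' hZ E hE
    obtain ⟨a, ha0, haQ⟩ := SetLike.not_le_iff_exists.mp hPQ
    obtain ⟨s, hs, hsa⟩ := hin (ψ ⟨a, ha0⟩) ⟨_, rfl⟩ fun h => haQ ((hker _).mp h)
    have hidx : T.relIndex P ≤ Nat.card E := by
      set TT := T.subgroupOf P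
      haveI : IsMulCommutative ↥P := hP.1
      have htop : TT ⊔ P0.subgroupOf P = ⊤ := by
        rw [eq_top_iff]
        rintro ⟨c, hc⟩ -
        obtain ⟨t, ht, d, hd, rfl⟩ := hcover c hc
        exact (show (⟨t, hTP ht⟩ : ↥P) * ⟨d, hd.1⟩ ∈ TT ⊔ P0.subgroupOf P from
          mul_mem (Subgroup.mem_sup_left ht) (Subgroup.mem_sup_right hd))
      show TT.index ≤ _
      haveI : TT.Normal := ⟨fun x hx g => by
        rwa [show g * x * g⁻¹ = x from mul_inv_eq_iff_eq_mul.mpr (Subtype.ext (hPc g g.2 x x.2))]⟩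
      rw [← Subgroup.relIndex_top_right, ← htop, sup_comm, Subgroup.relIndex_sup_right,
        Subgroup.relIndex_subgroupOf inf_le_left]
      refine le_of_eq ?_
      rw [← Subgroup.index_ker ψ, Subgroup.relIndex]
      congr 1
      ext c
      exact ⟨fun h => (hker c).mpr (hTQ ⟨h, c.2⟩), fun h => hQT ((hker c).mp h)⟩
    refine Or.inr ⟨F, inferInstance, inferInstance, m, hm, hF, T, hTP, fun h => ?_, hidx.trans hcard,
      a, ha0.1, δ.range, ?_, ?_⟩
    · exact haQ (hTQ ⟨h ▸ ha0.1, ha0⟩)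
    · rintro _ ⟨x, rfl⟩ t ht
      exact mul_inv_eq_iff_eq_mul.mp (hfix t ht x)
    have hD : ∀ d ∈ δ.range, a * d * a⁻¹ ∈ δ.range := by
      rintro _ ⟨x, rfl⟩
      exact ⟨_, (heq a ha0 x ((Subgroup.mem_normalizer_iff.mp ha0.2 x).mp x.2)).symm⟩
    let ι := MonoidHom.ofInjective hδ
    refine ⟨hD, (e'.toMonoidHom).comp ι.symm.toMonoidHom, e' s, e'.surjective.comp ι.symm.surjective, ?_, ?_⟩
    · rw [MulEquiv.orderOf_eq, hs]
    · rintro ⟨_, x, rfl⟩
      have h1 : (⟨a * δ x * a⁻¹, hD _ ⟨x, rfl⟩⟩ : ↥δ.range) = ι (ψ ⟨a, ha0⟩ x) :=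
        Subtype.ext (heq a ha0 x ((Subgroup.mem_normalizer_iff.mp ha0.2 x).mp x.2))
      show e' (ι.symm ⟨a * δ x * a⁻¹, _⟩) = e' s * e' (ι.symm (ι x)) * (e' s)⁻¹
      rw [h1, ι.symm_apply_apply, ι.symm_apply_apply, hsa, MulAut.conj_apply, map_mul, map_mul, map_inv]
  · -- `PSL₂`
    have hS : ∀ α ∈ E, ∀ t ∈ (MulAut.conj : ↥L →* MulAut ↥L).range ⊔ Subgroup.zpowers α,
        ∀ y ∈ (MulAut.conj : ↥L →* MulAut ↥L).range ⊔ Subgroup.zpowers α,
          t * t = 1 → orderOf y = 3 → t * y * t⁻¹ = y⁻¹ → False := by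
      intro α hα t ht y hy ht2 hy3 hty
      let R := (L.normalizerMonoidHom).range
      have hle : (MulAut.conj : ↥L →* MulAut ↥L).range ⊔ Subgroup.zpowers α ≤ R := by
        refine sup_le ?_ (Subgroup.zpowers_le.mpr ?_)
        · rintro _ ⟨z, rfl⟩
          exact ⟨⟨(z : X), Subgroup.le_normalizer z.2⟩, MulEquiv.ext fun w => Subtype.ext rfl⟩
        · obtain ⟨c, rfl⟩ := hα
          exact ⟨_, rfl⟩
      have hbR : ¬ Cfsg.Involves (Equiv.Perm (Fin 3)) ↥R := fun h =>
        hb (Involves.involves_of_subgroup (Involves.involves_of_surjective _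
          (L.normalizerMonoidHom).rangeRestrict_surjective h))
      exact no_inverted_three hbR (t := (⟨t, hle ht⟩ : ↥R)) (y := ⟨y, hle hy⟩) (Subtype.ext ht2)
        (by rw [← Subgroup.orderOf_coe]; exact hy3) (Subtype.ext hty)
    obtain ⟨x, hx1, hxo, hall, α, hα, hαx⟩ := psl_exists_inverted hsimple hnc hF e E hE hE1 hS
    obtain ⟨⟨a, ha0⟩, rfl⟩ := hα
    have hδc : ∀ c : ↥P0, (c : X) * δ x * (c : X)⁻¹ = δ (ψ c x) := fun c =>
      heq c ⟨c.2.1, c.2.2⟩ x _
    refine Or.inl ⟨P ⊓ Subgroup.centralizer ({δ x} : Set X), a, ha0.1, δ x, inf_le_left,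
      fun h => hx1 (hδ (h.trans (map_one δ).symm)), hxo.of_dvd_nat (orderOf_map_dvd δ x), ?_, ?_, ?_⟩
    · show a * δ x * a⁻¹ = (δ x)⁻¹
      rw [hδc ⟨a, ha0⟩, hαx, map_inv]
    · exact fun b hb => Subgroup.mem_centralizer_singleton_iff.mp hb.2
    intro c hc
    obtain ⟨t, ht, d, hd, rfl⟩ := hcover c hc
    rcases hall (ψ ⟨d, hd⟩) ⟨_, rfl⟩ with h | h
    · refine Or.inl ⟨hc, Subgroup.mem_centralizer_singleton_iff.mpr (mul_inv_eq_iff_eq_mul.mp ?_)⟩
      calc t * d * δ x * (t * d)⁻¹ = t * (d * δ x * d⁻¹) * t⁻¹ := by group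
        _ = δ x := by rw [hδc ⟨d, hd⟩, h, hfix t ht x]
    · refine Or.inr ⟨mul_mem hc ha0.1,
        Subgroup.mem_centralizer_singleton_iff.mpr (mul_inv_eq_iff_eq_mul.mp ?_)⟩
      calc t * d * a * δ x * (t * d * a)⁻¹ = t * (d * (a * δ x * a⁻¹) * d⁻¹) * t⁻¹ := by group
        _ = t * (d * δ x * d⁻¹)⁻¹ * t⁻¹ := by rw [hδc ⟨a, ha0⟩, hαx, map_inv]; group
        _ = (t * (d * δ x * d⁻¹) * t⁻¹)⁻¹ := by group
        _ = δ x := by rw [hδc ⟨d, hd⟩, h, hfix t ht, map_inv, inv_inv]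

/-- The central case. -/
theorem exists_good_central {G : Type u} [Group G] [Finite G]
    (hb : ¬ Cfsg.Involves (Equiv.Perm (Fin 3)) G)
    (hc : Cfsg.IsCompositionKGroupWith Cfsg.IsSuzukiOrPSL2OddPowerThree G)
    (h2 : Cfsg.pCore 2 G = ⊥) (hR : Cfsg.pPrimeCore 2 G ≤ Subgroup.center G)
    {A : Subgroup G} (hA : Cfsg.IsElementaryAbelian 2 A) (hA1 : A ≠ ⊥) : Good A := by
  haveI : Fact (Nat.Prime 2) := ⟨Nat.prime_two⟩
  set R := Cfsg.pPrimeCore 2 G
  haveI hRn : R.Normal := ⟨fun x hx g => by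
    rwa [Subgroup.mem_center_iff.mp (hR hx) g, mul_inv_cancel_right]⟩
  have hRodd : ∀ z ∈ R, z * z = 1 → z = 1 := fun z hz h =>
    orderOf_eq_one_iff.mp (Nat.eq_one_of_dvd_coprimes (Cores.coprime_card_pPrimeCore (G := G) 2)
      (Subgroup.orderOf_dvd_natCard _ hz) (orderOf_dvd_of_pow_eq_one (by rw [pow_two, h])))
  have hRc : ∀ z ∈ R, ∀ g : G, g * z = z * g := fun z hz g => Subgroup.mem_center_iff.mp (hR hz) g
  let f := QuotientGroup.mk' R
  have hf : Function.Surjective f := QuotientGroup.mk'_surjective R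
  have hf1 : ∀ {g : G}, f g = 1 ↔ g ∈ R := fun {g} => QuotientGroup.eq_one_iff g
  -- involutions commuting modulo `R` commute
  have hcq : ∀ b x : G, b * b = 1 → f b * f x = f x * f b → b * x = x * b := by
    intro b x hb2 hbx
    set c := b * x * b⁻¹ * x⁻¹ with hc'
    have hcR : c ∈ R := by
      rw [← hf1, hc', map_mul, map_mul, map_mul, map_inv, map_inv, hbx]; group
    have hconj : b * x * b⁻¹ = c * x := by rw [hc']; group
    have h3 : (c * c) * x = x := by
      calc (c * c) * x = c * (b * x * b⁻¹) := by rw [hconj, mul_assoc]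
        _ = b * (c * x) * b⁻¹ := by
          rw [← mul_assoc b c x, hRc c hcR b]; group
        _ = b * (b * x * b⁻¹) * b⁻¹ := by rw [hconj]
        _ = (b * b) * x * (b * b)⁻¹ := by group
        _ = x := by rw [hb2]; group
    have hc1 := hRodd c hcR (mul_eq_right.mp h3)
    rw [hc1, one_mul] at hconj
    exact mul_inv_eq_iff_eq_mul.mp hconj
  have hAsq : ∀ b ∈ A, b * b = 1 := fun b hb' => by rw [← pow_two]; exact hA.2 b hb'
  have hinjA : ∀ b ∈ A, f b = 1 → b = 1 := fun b hb' h => hRodd b (hf1.mp h) (hAsq b hb')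
  -- the abelian normal subgroups of the quotient are trivial
  have hab : ∀ N : Subgroup (G ⧸ R), N.Normal → IsMulCommutative ↥N → N = ⊥ := by
    intro N hN hNc
    set P := N.comap f
    haveI hPn : P.Normal := Subgroup.Normal.comap hN f
    haveI : Group.IsNilpotent ↥P := by
      haveI : Group.IsNilpotent ↥N := Cores.isNilpotent_of_isMulCommutative N
      refine Subgroup.isNilpotent_of_ker_le_center (f.subgroupComap N) ?_
      intro x hx
      rw [Subgroup.mem_center_iff]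
      intro g
      exact Subtype.ext (hRc x (hf1.mp (congrArg Subtype.val hx :)) g)
    obtain ⟨S⟩ : Nonempty (Sylow 2 ↥P) := inferInstance
    have hS : ((S : Subgroup ↥P).map P.subtype) ≤ Cfsg.pCore 2 G := by
      haveI : (S : Subgroup ↥P).Normal := inferInstance
      haveI : (S : Subgroup ↥P).Characteristic := Sylow.characteristic_of_normal S inferInstance
      exact Cores.le_pCore (Cores.map_subtype_normal_of_characteristic P (S : Subgroup ↥P)) (S.2.map _)
    rw [h2, le_bot_iff, Subgroup.map_eq_bot_iff_of_injective _ P.subtype_injective] at hS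
    have hodd : (Nat.card ↥P).Coprime 2 := by
      refine Nat.Coprime.symm ((Nat.prime_two.coprime_iff_not_dvd).mpr fun h => ?_)
      exact S.ne_bot_of_dvd_card h hS
    have hPR : P ≤ R := Cores.le_pPrimeCore hPn hodd
    rw [eq_bot_iff]
    intro y hy
    obtain ⟨g, rfl⟩ := hf y
    exact Subgroup.mem_bot.mpr (hf1.mpr (hPR hy))
  -- a moved component
  have hfit : Cfsg.fittingSubgroup (G ⧸ R) = ⊥ := by
    by_contra hne
    set N := Cfsg.fittingSubgroup (G ⧸ R)
    haveI : Nontrivial ↥N := (Subgroup.nontrivial_iff_ne_bot N).mpr hne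
    have hz := Cores.inf_center_ne_bot (⊤ : Subgroup ↥N) top_ne_bot
    rw [top_inf_eq] at hz
    refine hz ((Subgroup.map_eq_bot_iff_of_injective _ N.subtype_injective).mp (hab _
      (Cores.map_subtype_normal_of_characteristic N (Subgroup.center ↥N)) ?_))
    refine ⟨⟨?_⟩⟩
    rintro ⟨_, u, hu, rfl⟩ ⟨_, v, hv, rfl⟩
    exact Subtype.ext (congrArg (fun w : ↥N => (w : G ⧸ R)) (Subgroup.mem_center_iff.mp hv u))
  set P := A.map f
  obtain ⟨L, hL, hPL⟩ : ∃ L : Subgroup (G ⧸ R), Cfsg.IsComponent L ∧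
      ¬ P ≤ Subgroup.centralizer (L : Set (G ⧸ R)) := by
    by_contra hall
    push Not at hall
    refine hA1 ((Subgroup.eq_bot_iff_forall A).mpr fun b hb' => hinjA b hb' ?_)
    have h1 : P ≤ Subgroup.centralizer (Cfsg.generalizedFittingSubgroup (G ⧸ R) : Set (G ⧸ R)) := by
      rw [Subgroup.le_centralizer_iff, Cfsg.generalizedFittingSubgroup, hfit, sup_bot_eq]
      exact Components.layer_le fun K hK => Subgroup.le_centralizer_iff.mp (hall K hK)
    have h2' := (h1.trans Components.centralizer_genFitting_le_fitting) ⟨b, hb', rfl⟩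
    rw [hfit] at h2'
    exact Subgroup.mem_bot.mp h2'
  have hZ : Subgroup.center ↥L = ⊥ := by
    refine (Subgroup.map_eq_bot_iff_of_injective _ L.subtype_injective).mp ?_
    rw [eq_bot_iff, ← hfit]
    refine Cores.le_fittingSubgroup_of_isSubnormal
      ((Subgroup.Normal.isSubnormal inferInstance).trans' hL.1) ?_
    exact Cores.isNilpotent_map L.subtype (Cores.isNilpotent_of_isMulCommutative (Subgroup.center ↥L))
  have hsimple : IsSimpleGroup ↥L :=
    haveI := hL.2.2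
    MulEquiv.isSimpleGroup (((QuotientGroup.quotientMulEquivOfEq hZ).trans QuotientGroup.quotientBot).symm)
  have hnc : ¬ IsMulCommutative ↥L := Components.IsQuasisimple.not_isMulCommutative hL.2
  have hK : Cfsg.IsSuzukiOrPSL2OddPowerThree ↥L := by
    let g := f.subgroupComap L
    have hg : Function.Surjective g := f.subgroupComap_surjective_of_surjective L hf
    let e := QuotientGroup.quotientKerEquivOfSurjective g hg
    haveI := hsimple
    have h1 := hc (L.comap f) (hL.1.comap f) g.ker (MulEquiv.isSimpleGroup e)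
      (fun h => hnc (haveI := h; ⟨⟨fun u v => e.symm.injective (by
        rw [map_mul, map_mul]; exact h.1.1 _ _)⟩⟩))
    rcases h1 with ⟨F, i1, i2, m, hm, hF, ⟨e'⟩⟩ | ⟨F, i1, i2, n, hF, ⟨e'⟩⟩
    · exact Or.inl ⟨F, i1, i2, m, hm, hF, ⟨e.symm.trans e'⟩⟩
    · exact Or.inr ⟨F, i1, i2, n, hF, ⟨e.symm.trans e'⟩⟩
  have hP : Cfsg.IsElementaryAbelian 2 P := by
    refine ⟨⟨⟨?_⟩⟩, ?_⟩
    · rintro ⟨_, u, hu, rfl⟩ ⟨_, v, hv, rfl⟩
      refine Subtype.ext ?_
      show f u * f v = f v * f u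
      rw [← map_mul, ← map_mul, (Subgroup.le_centralizer_iff_isMulCommutative.2 hA.1 hv) u hu]
    · rintro _ ⟨u, hu, rfl⟩
      rw [← map_pow, hA.2 u hu, map_one]
  have hbQ : ¬ Cfsg.Involves (Equiv.Perm (Fin 3)) (G ⧸ R) := fun h =>
    hb (Involves.involves_of_surjective f hf h)
  have hmemB : ∀ (B : Subgroup (G ⧸ R)) (b : G), b ∈ A ⊓ B.comap f → f b ∈ B := fun B b h => h.2
  rcases step_of_component hbQ hL hsimple hnc hK hZ hP hPL with
    ⟨B, _, ⟨a, ha, rfl⟩, yb, hBP, hy1, hyo, hinv, hBy, hsp⟩ |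
    ⟨F, _, _, m, hm, hF, B, hBP, hBne, hidx, _, ⟨a, ha, rfl⟩, D, hDB, hDa, π, s, hπ, hs, heq⟩
  · obtain ⟨y, rfl⟩ := hf yb
    have haa := hAsq a ha
    have hainv : a⁻¹ = a := inv_eq_of_mul_eq_one_right haa
    set z := (a * y * a⁻¹) * y with hz
    have hzR : z ∈ R := by rw [← hf1, hz, map_mul, map_mul, map_mul, map_inv, hinv, inv_mul_cancel]
    obtain ⟨c, hcR, hcz⟩ : ∃ c ∈ R, z * (c * c) = 1 := by
      have hco : (Nat.card ↥R).Coprime 2 := Cores.coprime_card_pPrimeCore (G := G) 2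
      obtain ⟨c', hc'⟩ := (powCoprime hco).surjective ⟨z⁻¹, inv_mem hzR⟩
      refine ⟨c', c'.2, ?_⟩
      have h' : (c' : G) ^ 2 = z⁻¹ := by
        have := congrArg Subtype.val hc'
        simpa using this
      rw [← pow_two, h', mul_inv_cancel]
    set w := y * c with hw
    have hw' : a * w * a⁻¹ * w = 1 := by
      calc a * (y * c) * a⁻¹ * (y * c) = a * y * (c * a⁻¹) * y * c := by group
        _ = (a * y * a⁻¹) * (c * y) * c := by rw [← hRc c hcR a⁻¹]; group
        _ = z * (c * c) := by rw [← hRc c hcR y, hz]; group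
        _ = 1 := hcz
    have hwinv : a * w * a⁻¹ = w⁻¹ := eq_inv_of_mul_eq_one_left hw'
    have hfw : f w = f y := by rw [hw, map_mul, hf1.mpr hcR, mul_one]
    obtain ⟨k, j, hj, hk⟩ := Nat.exists_eq_two_pow_mul_odd (orderOf_pos w).ne'
    set w' := w ^ 2 ^ k
    have hw'o : Odd (orderOf w') := by
      rw [orderOf_pow_of_dvd (pow_ne_zero _ two_ne_zero) (hk ▸ Dvd.intro j rfl), hk,
        Nat.mul_div_cancel_left _ (pow_pos two_pos k)]
      exact hj
    have hinv' : a * w' * a⁻¹ = w'⁻¹ := by rw [← conj_pow, hwinv, inv_pow]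
    have hw'1 : w' ≠ 1 := fun h => hy1 (by
      have h' : f y ^ 2 ^ k = 1 := by rw [← hfw, ← map_pow]; exact (congrArg f h).trans (map_one f)
      exact orderOf_eq_one_iff.mp (Nat.eq_one_of_dvd_coprimes
        ((Nat.coprime_two_right.mpr hyo).pow_right k) dvd_rfl (orderOf_dvd_of_pow_eq_one h')))
    refine good_of_inverted hb hA ha hw'1 hw'o hinv' fun b hb' => ?_
    have key : ∀ b ∈ A, f b ∈ B → b * w' * b⁻¹ = w' := by
      intro b hb' hbB
      have : Commute b w := hcq b w (hAsq b hb') (by rw [hfw]; exact hBy _ hbB)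
      rw [(this.pow_right (2 ^ k)).eq, mul_inv_cancel_right]
    rcases hsp (f b) ⟨b, hb', rfl⟩ with h | h
    · exact Or.inl (key b hb' h)
    · refine Or.inr ?_
      have h1 := key (b * a) (mul_mem hb' ha) (by rw [map_mul]; exact h)
      have h2' : b * (a * w' * a⁻¹) * b⁻¹ = w' :=
        Eq.trans (by group) h1
      rw [hinv', ← conj_inv] at h2'
      exact inv_eq_iff_eq_inv.mp h2'
  · set B₀ := A ⊓ B.comap f
    have hmapB : B₀.map f = B := by
      refine le_antisymm ?_ fun u hu => ?_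
      · rintro _ ⟨b, hb', rfl⟩; exact hb'.2
      · obtain ⟨b, hb', rfl⟩ := hBP hu
        exact ⟨b, ⟨hb', hu⟩, rfl⟩
    have hne : B₀ ≠ A := fun h => hBne (by rw [← hmapB, h])
    have hidx' : B₀.relIndex A ≤ 2 ^ (2 * m + 1) := by
      refine le_trans (le_of_eq ?_) hidx
      show B₀.relIndex A = B.relIndex (A.map f)
      rw [← Subgroup.relIndex_comap, Subgroup.inf_relIndex_left]
    set H := D.comap f
    let πH : ↥H →* Cfsg.Sz F m := π.comp (f.subgroupComap D)
    have haH : ∀ h ∈ H, a * h * a⁻¹ ∈ H := fun h hh => by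
      show f (a * h * a⁻¹) ∈ D
      rw [map_mul, map_mul, map_inv]
      exact hDa _ hh
    refine good_of_sz hm hF hA inf_le_left hne ha (fun h hh b hb' => ?_) haH πH
      (hπ.comp (f.subgroupComap_surjective_of_surjective D hf)) hs (fun h => ?_) hidx'
    · exact hcq b h (hAsq b hb'.1) (hDB hh _ hb'.2)
    · show π _ = _
      rw [show f.subgroupComap D ⟨a * (h : G) * a⁻¹, haH h h.2⟩ =
        ⟨f a * ((f.subgroupComap D h : ↥D) : G ⧸ R) * (f a)⁻¹, hDa _ (f.subgroupComap D h).2⟩ from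
          Subtype.ext (by
            show f (a * (h : G) * a⁻¹) = f a * f h * (f a)⁻¹
            rw [map_mul, map_mul, map_inv])]
      exact heq _

/-- Every nontrivial elementary abelian 2-subgroup has a step. -/
theorem exists_good {G : Type u} [Group G] [Finite G] (hb : ¬ Cfsg.Involves (Equiv.Perm (Fin 3)) G)
    (hc : Cfsg.IsCompositionKGroupWith Cfsg.IsSuzukiOrPSL2OddPowerThree G)
    (h2 : Cfsg.pCore 2 G = ⊥) {A : Subgroup G} (hA : Cfsg.IsElementaryAbelian 2 A) (hA1 : A ≠ ⊥) :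
    Good A := by
  haveI : Fact (Nat.Prime 2) := ⟨Nat.prime_two⟩
  set R := Cfsg.pPrimeCore 2 G
  haveI hRn : R.Normal := Cores.pPrimeCore_normal 2 G
  have hRodd : ¬ 2 ∣ Nat.card ↥R :=
    Nat.prime_two.coprime_iff_not_dvd.mp (Cores.coprime_card_pPrimeCore (G := G) 2).symm
  by_cases hAR : A ≤ Subgroup.centralizer (R : Set G)
  · set C := Subgroup.centralizer (R : Set G)
    haveI hCn : C.Normal := Subgroup.normal_centralizer
    refine good_restrict hAR (exists_good_central (G := ↥C) (fun h => hb (Involves.involves_of_subgroup h))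
      ?_ ?_ ?_ ?_ ?_)
    · intro H hH N _ hs hn
      let e := H.equivMapOfInjective C.subtype C.subtype_injective
      let N' := N.map e.toMonoidHom
      haveI : N'.Normal := Subgroup.Normal.map inferInstance _ e.surjective
      let e2 := QuotientGroup.congr N N' e rfl
      haveI := hs
      have h1 := hc (H.map C.subtype) (hH.trans' (Subgroup.Normal.isSubnormal hCn)) N'
        (MulEquiv.isSimpleGroup e2.symm) (fun h => hn (haveI := h; ⟨⟨fun u v => e2.injective (by
          rw [map_mul, map_mul]; exact h.1.1 _ _)⟩⟩))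
      rcases h1 with ⟨F, i1, i2, m, hm, hF, ⟨e'⟩⟩ | ⟨F, i1, i2, n, hF, ⟨e'⟩⟩
      · exact Or.inl ⟨F, i1, i2, m, hm, hF, ⟨e2.trans e'⟩⟩
      · exact Or.inr ⟨F, i1, i2, n, hF, ⟨e2.trans e'⟩⟩
    · refine (Subgroup.map_eq_bot_iff_of_injective _ C.subtype_injective).mp ?_
      rw [eq_bot_iff, ← h2, Cores.pCore_map_subtype C 2]
      exact inf_le_left
    · intro x hx
      rw [Subgroup.mem_center_iff]
      intro g
      refine Subtype.ext ((g.2 x ?_).symm)
      refine Cores.le_pPrimeCore (Cores.map_subtype_normal_of_characteristic C (Cfsg.pPrimeCore 2 ↥C)) ?_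
        ⟨x, hx, rfl⟩
      rw [Cores.card_map_subtype]
      exact Cores.coprime_card_pPrimeCore 2
    · refine ⟨⟨⟨fun u v => Subtype.ext (Subtype.ext ?_)⟩⟩, fun u hu => Subtype.ext (hA.2 _ hu)⟩
      exact (Subgroup.le_centralizer_iff_isMulCommutative.2 hA.1 v.2) _ u.2
    · intro h
      refine hA1 ?_
      rw [← Subgroup.map_subgroupOf_eq_of_le hAR, h, Subgroup.map_bot]
  · obtain ⟨a, ha, hna⟩ : ∃ a ∈ A, ¬ R ≤ Subgroup.centralizer ({a} : Set G) := by
      by_contra h
      push Not at h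
      exact hAR fun a ha r hr => Subgroup.mem_centralizer_singleton_iff.mp (h a ha hr)
    obtain ⟨w, hwR, hw1, hinv, hall⟩ := Signalizer.exists_inverted_of_not_fixed hA hRodd
      (by rw [Subgroup.normalizer_eq_top]; exact le_top) ha hna
    exact good_of_inverted hb hA ha hw1
      ((Nat.odd_iff.mpr (by
        have : ¬ 2 ∣ orderOf w := fun h => hRodd (h.trans (Subgroup.orderOf_dvd_natCard _ hwR))
        omega))) hinv hall

end Cfsg.Agent.SThreeFree
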